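import Mathlib
import Cfsg.Prelude.Def_Classical

/-!
Bounds on the order of a finite permutation group along a list of base points.
-/

set_option autoImplicit false

namespace H79.Suz

section chain

variable {G α : Type*} [Group G] [MulAction G α] [Finite G]

/-- fixer of the first `k` points -/
def chainSt (b : ℕ → α) (k : ℕ) : Subgroup G where
  carrier := {g | ∀ i < k, g • b i = b i}
  one_mem' := fun i _ => one_smul G (b i)
  mul_mem' := fun {g h} hg hh i hi => by rw [mul_smul, hh i hi, hg i hi]
  inv_mem' := fun {g} hg i hi => by rw [inv_smul_eq_iff, hg i hi]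

theorem mem_chainSt {b : ℕ → α} {k : ℕ} {g : G} : g ∈ chainSt b k ↔ ∀ i < k, g • b i = b i :=
  Iff.rfl

theorem chainSt_step (b : ℕ → α) (k : ℕ) :
    (MulAction.orbit (chainSt (G := G) b k) (b k)).ncard * Nat.card (chainSt (G := G) b (k + 1)) =
      Nat.card (chainSt (G := G) b k) := by
  have e : Nat.card (MulAction.stabilizer (chainSt (G := G) b k) (b k)) =
      Nat.card (chainSt (G := G) b (k + 1)) := by
    refine Nat.card_congr
      { toFun := fun g => ⟨g.1.1, mem_chainSt.mpr fun i hi => ?_⟩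
        invFun := fun g => ⟨⟨g.1, mem_chainSt.mpr fun i hi => mem_chainSt.mp g.2 i (by omega)⟩,
          mem_chainSt.mp g.2 k (by omega)⟩
        left_inv := fun g => rfl
        right_inv := fun g => rfl }
    rcases Nat.lt_succ_iff_lt_or_eq.mp hi with h | h
    · exact mem_chainSt.mp g.1.2 i h
    · subst h; exact g.2
  rw [← e, ← MulAction.index_stabilizer, mul_comm, Subgroup.card_mul_index]

theorem chain_lower (b : ℕ → α) (n : ℕ → ℕ) (k : ℕ)
    (h : ∀ i < k, ∃ s : Finset α, n i ≤ s.card ∧
      ∀ x ∈ s, ∃ g : G, (∀ j < i, g • b j = b j) ∧ g • b i = x) :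
    ∏ i ∈ Finset.range k, n i ≤ Nat.card G := by
  suffices ∀ m ≤ k, (∏ i ∈ Finset.range m, n i) * Nat.card (chainSt (G := G) b m) ≤ Nat.card G from
    le_trans (Nat.le_mul_of_pos_right _ Nat.card_pos) (this k le_rfl)
  intro m hm
  induction m with
  | zero =>
    rw [Finset.prod_range_zero, one_mul]
    exact Subgroup.card_le_card_group _
  | succ m ih =>
    refine le_trans ?_ (ih (by omega))
    rw [Finset.prod_range_succ, mul_assoc, ← chainSt_step (G := G) b m]
    refine Nat.mul_le_mul_left _ (Nat.mul_le_mul_right _ ?_)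
    obtain ⟨s, hs, hg⟩ := h m (by omega)
    refine hs.trans ?_
    rw [← Set.ncard_coe_finset]
    refine Set.ncard_le_ncard (fun x hx => ?_) (Set.finite_range _)
    obtain ⟨g, hg1, hg2⟩ := hg x hx
    exact ⟨⟨g, mem_chainSt.mpr hg1⟩, hg2⟩

theorem chain_upper (b : ℕ → α) (n : ℕ → ℕ) (k : ℕ)
    (h : ∀ i < k, ∃ s : Finset α, s.card ≤ n i ∧
      ∀ g : G, (∀ j < i, g • b j = b j) → g • b i ∈ s)
    (hlast : ∀ g : G, (∀ j < k, g • b j = b j) → g = 1) :
    Nat.card G ≤ ∏ i ∈ Finset.range k, n i := by
  suffices ∀ m ≤ k, Nat.card G ≤ (∏ i ∈ Finset.range m, n i) * Nat.card (chainSt (G := G) b m) by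
    have h1 : Nat.card (chainSt (G := G) b k) = 1 := by
      rw [Subgroup.card_eq_one, Subgroup.eq_bot_iff_forall]
      exact fun g hg => hlast g (mem_chainSt.mp hg)
    simpa [h1] using this k le_rfl
  intro m hm
  induction m with
  | zero =>
    rw [Finset.prod_range_zero, one_mul]
    exact Nat.card_le_card_of_injective (fun g : G => (⟨g, mem_chainSt.mpr fun i hi => absurd hi (by omega)⟩ :
      chainSt (G := G) b 0)) fun _ _ e => congrArg Subtype.val e
  | succ m ih =>
    refine le_trans (ih (by omega)) ?_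
    rw [Finset.prod_range_succ, mul_assoc, ← chainSt_step (G := G) b m]
    refine Nat.mul_le_mul_left _ (Nat.mul_le_mul_right _ ?_)
    obtain ⟨s, hs, hg⟩ := h m (by omega)
    refine le_trans ?_ hs
    rw [← Set.ncard_coe_finset]
    refine Set.ncard_le_ncard ?_ s.finite_toSet
    rintro x ⟨g, rfl⟩
    exact hg g.1 (mem_chainSt.mp g.2)

end chain

open Cfsg

/-- isometries acting on vectors -/
@[reducible] def actIso {ι : Type} [Fintype ι] [DecidableEq ι] {F : Type*} [Field F] (Q : (ι → F) → F) :
    MulAction (isometryGroup F Q) (ι → F) where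
  smul g v := Matrix.mulVec ((g : GL ι F) : Matrix ι ι F) v
  one_smul v := by
    show Matrix.mulVec (((1 : isometryGroup F Q) : GL ι F) : Matrix ι ι F) v = v
    simp
  mul_smul g h v := by
    show Matrix.mulVec _ v = Matrix.mulVec _ (Matrix.mulVec _ v)
    rw [Subgroup.coe_mul, Units.val_mul, Matrix.mulVec_mulVec]

end H79.Suz
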