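import Cfsg.Agent.H79.Suz.Elem

/-!
The extraspecial group of order `2^7` in the centraliser, with coordinates modulo its centre.
-/

set_option autoImplicit false

namespace H79.Suz

open Cfsg H95 H95.Co2Cent H96.Co1Oct

/-- the index type -/
abbrev I6 : Type := (Fin 2 ⊕ Fin 2) ⊕ Fin 2

/-- the quadratic space -/
abbrev V6 : Type := I6 → ZMod 2

/-- the form -/
abbrev qm : V6 → ZMod 2 := quadFormMinus 2 (ZMod 2) 1 1

/-- position of an index -/
def pos6 : I6 → ℕ := Sum.elim (Sum.elim (fun i => i.val) fun i => 2 + i.val) fun i => 4 + i.val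

/-- vector of a mask -/
def vec6 (k : Fin 64) : V6 := fun m => if k.val.testBit (pos6 m) then 1 else 0

/-- exclusive or -/
def x6 (k l : Fin 64) : Fin 64 := ⟨k.val ^^^ l.val, Nat.xor_lt_two_pow (n := 6) k.isLt l.isLt⟩

theorem vec6_x6 (k l : Fin 64) : vec6 (x6 k l) = vec6 k + vec6 l := by
  funext m
  simp only [vec6, x6, Pi.add_apply, Nat.testBit_xor]
  cases k.val.testBit (pos6 m) <;> cases l.val.testBit (pos6 m) <;> decide

theorem vec6_bij : Function.Bijective vec6 := by
  refine ⟨?_, ?_⟩
  · unfold Function.Injective; decide +kernel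
  · unfold Function.Surjective; decide +kernel

/-- codes of the six elements -/
def qS (j : Fin 6) : ℕ × ℕ := qSP.getD j.val (0, 0)

theorem qS_ok : ∀ j : Fin 6, spOK (qS j) = true ∧ fixOct (spL (qS j)) = true ∧
    commA (spL (qS j)) = true := by decide +kernel

/-- the six elements -/
noncomputable def qG (j : Fin 6) : Co0 := spElt (qS j)

theorem coded_q (j : Fin 6) : Coded (qG j) (qS j) := spElt_coded (qS_ok j).1

theorem qG_mem (j : Fin 6) : qG j ∈ Qa :=
  mem_Qa.mpr ⟨mem_Kg_of_fixOct (a := spListed (qS j) (qS_ok j).1) (qS_ok j).2.1,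
    comm_a (a := spListed (qS j) (qS_ok j).1) (qS_ok j).2.2⟩

/-- product over the bits of a mask -/
def foldBits {M : Type*} (m : M → M → M) (one : M) (q : Fin 6 → M) (k : Fin 64) : M :=
  (List.finRange 6).foldl (fun acc j => if k.val.testBit j.val then m acc (q j) else acc) one

/-- code of a word -/
def wordC (k : Fin 64) : ℕ × ℕ := foldBits mulC (0, H90.idN) qS k

/-- a word -/
noncomputable def wordG (k : Fin 64) : Co0 := foldBits (· * ·) 1 qG k

theorem fold_rel {α β : Type*} (R : α → β → Prop) (f : α → Fin 6 → α) (f' : β → Fin 6 → β)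
    (h : ∀ a b j, R a b → R (f a j) (f' b j)) :
    ∀ (L : List (Fin 6)) (a : α) (b : β), R a b → R (L.foldl f a) (L.foldl f' b)
  | [], _, _, hab => hab
  | j :: L, a, b, hab => fold_rel R f f' h L _ _ (h a b j hab)

theorem coded_word (k : Fin 64) : Coded (wordG k) (wordC k) :=
  fold_rel (fun g x => Coded g x) _ _ (fun g x j hg => by
    split
    · exact hg.mul (coded_q j)
    · exact hg) _ _ _ coded_one

theorem wordG_mem (k : Fin 64) : wordG k ∈ Qa :=
  fold_rel (fun g (_ : Unit) => g ∈ Qa) _ (fun _ _ => ()) (fun g _ j hg => by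
    split
    · exact Qa.mul_mem hg (qG_mem j)
    · exact hg) _ _ () Qa.one_mem

/-- code of a general element -/
def pC (e : Bool) (k : Fin 64) : ℕ × ℕ := if e then mulC cC (wordC k) else wordC k

/-- a general element -/
noncomputable def pG (e : Bool) (k : Fin 64) : Co0 := if e then cG * wordG k else wordG k

theorem coded_p (e : Bool) (k : Fin 64) : Coded (pG e k) (pC e k) := by
  cases e
  · exact coded_word k
  · exact coded_c.mul (coded_word k)

theorem pG_mem (e : Bool) (k : Fin 64) : pG e k ∈ Qa := by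
  cases e
  · exact wordG_mem k
  · exact Qa.mul_mem cG_mem (wordG_mem k)

theorem cG_sq : cG * cG = 1 :=
  (coded_c.mul coded_c).unique (x := mulC cC cC) (by
    rw [show mulC cC cC = (0, H90.idN) by decide +kernel]; exact coded_one)

theorem cG_commQ {g : Co0} (hg : g ∈ Qa) : g * cG = cG * g := cG_comm (Kg_le (mem_Qa.mp hg).1)

/-- flipping a bit -/
def bit6 (j : Fin 6) : Fin 64 := ⟨2 ^ j.val, by revert j; decide⟩

theorem step_check : ∀ (k : Fin 64) (j : Fin 6),
    (mulC (wordC k) (qS j) == pC false (x6 k (bit6 j)) || mulC (wordC k) (qS j) == pC true (x6 k (bit6 j)))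
      = true := by decide +kernel

theorem word_step (k : Fin 64) (j : Fin 6) : ∃ e, wordG k * qG j = pG e (x6 k (bit6 j)) := by
  have h := step_check k j
  simp only [Bool.or_eq_true, beq_iff_eq] at h
  rcases h with h | h
  · exact ⟨false, ((coded_word k).mul (coded_q j)).unique (h ▸ coded_p false _)⟩
  · exact ⟨true, ((coded_word k).mul (coded_q j)).unique (h ▸ coded_p true _)⟩

theorem pG_false (k : Fin 64) : pG false k = wordG k := rfl

theorem mul_pG {g : Co0} (hg : g ∈ Qa) (e : Bool) (k : Fin 64) :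
    g * pG e k = (if e then cG else 1) * (g * wordG k) := by
  cases e
  · rw [pG_false]; simp
  · show g * (cG * wordG k) = _
    rw [if_pos rfl, ← mul_assoc, cG_commQ hg, mul_assoc]

theorem sign_pG (e d : Bool) (k : Fin 64) :
    (if e then cG else 1) * pG d k = pG (xor e d) k := by
  cases e <;> cases d <;> simp [pG, ← mul_assoc, cG_sq]

theorem word_zero : wordG 0 = 1 := by
  unfold wordG foldBits
  refine List.foldlRecOn (motive := fun g => g = 1) _ _ rfl fun g hg j _ => ?_
  simp [hg]

theorem word_mul : ∀ (l k : Fin 64), ∃ e, wordG k * wordG l = pG e (x6 k l) := by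
  intro l
  induction l using WellFounded.induction
    (r := fun a b : Fin 64 => a.val < b.val) (hwf := InvImage.wf _ Nat.lt_wfRel.wf) with
  | _ l ih =>
    intro k
    by_cases h0 : l = 0
    · subst h0
      refine ⟨false, ?_⟩
      rw [word_zero, mul_one, pG_false]
      congr 1
      exact Fin.ext (by simp [x6])
    obtain ⟨j, hj⟩ : ∃ j : Fin 6, (x6 l (bit6 j)).val < l.val :=
      (show ∀ l : Fin 64, l ≠ 0 → ∃ j : Fin 6, (x6 l (bit6 j)).val < l.val by decide +kernel) l h0
    set l' := x6 l (bit6 j) with hl'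
    obtain ⟨d, hd⟩ := word_step l' j
    have hxl : x6 l' (bit6 j) = l := Fin.ext (by simp [hl', x6, Nat.xor_assoc])
    rw [hxl] at hd
    have hwl : wordG l = (if d then cG else 1) * (wordG l' * qG j) := by
      rw [hd, sign_pG, Bool.xor_self, pG_false]
    obtain ⟨e, he⟩ := ih l' hj k
    obtain ⟨f, hf⟩ := word_step (x6 k l') j
    have hx : x6 (x6 k l') (bit6 j) = x6 k l := Fin.ext (by simp [hl', x6, Nat.xor_assoc])
    rw [hx] at hf
    refine ⟨xor d (xor e f), ?_⟩
    have hk : wordG k * (if d then cG else 1) = (if d then cG else 1) * wordG k := by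
      cases d <;> simp [cG_commQ (wordG_mem k)]
    rw [hwl, ← mul_assoc, hk, mul_assoc, ← mul_assoc (wordG k), he,
      show pG e (x6 k l') = (if e then cG else 1) * wordG (x6 k l') by cases e <;> simp [pG],
      mul_assoc, hf, sign_pG, sign_pG]

theorem pG_mul (e d : Bool) (k l : Fin 64) : ∃ f, pG e k * pG d l = pG f (x6 k l) := by
  obtain ⟨f, hf⟩ := word_mul l k
  refine ⟨xor d (xor e f), ?_⟩
  rw [mul_pG (pG_mem e k), show pG e k = (if e then cG else 1) * wordG k by cases e <;> simp [pG],
    mul_assoc, hf, sign_pG, sign_pG]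

/-- the identity code, tested -/
def idCode (x : ℕ × ℕ) : Bool :=
  x.1 == 0 && (List.range 24).all fun i => H90.img x.2 i == i

theorem one_check : ∀ (e : Bool) (k : Fin 64), (pC e k).1 < 2 ^ 24 ∧
    (idCode (pC e k) = true → e = false ∧ k = 0) := by decide +kernel

theorem pG_eq_one {e : Bool} {k : Fin 64} (h : pG e k = 1) : e = false ∧ k = 0 := by
  obtain ⟨hlt, hh⟩ := one_check e k
  obtain ⟨σ, hσ, rσ⟩ := coded_p e k
  rw [h] at hσ
  obtain ⟨hM, hp⟩ := isSP_unique hlt (by norm_num) hσ isSP_one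
  refine hh ?_
  simp only [idCode, Bool.and_eq_true, beq_iff_eq, List.all_eq_true, List.mem_range]
  refine ⟨hM, fun i hi => ?_⟩
  subst hp
  have := (rσ ⟨i, hi⟩).symm
  simpa [H90.idx_pt] using this

theorem x6_self (k : Fin 64) : x6 k k = 0 := Fin.ext (by simp [x6])

theorem pG_injective : Function.Injective fun p : Bool × Fin 64 => pG p.1 p.2 := by
  rintro ⟨e, k⟩ ⟨d, l⟩ h
  change pG e k = pG d l at h
  obtain ⟨f, hf⟩ := pG_mul e d k l
  obtain ⟨f', hf'⟩ := pG_mul d d l l
  rw [x6_self] at hf'
  rw [h, hf'] at hf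
  have hk : x6 k l = 0 := by
    rcases f' with _ | _
    · rw [pG_false, word_zero] at hf
      exact (pG_eq_one hf.symm).2
    · have h2 : pG (xor true f) (x6 k l) = 1 := by
        rw [← sign_pG, ← hf]
        show cG * (cG * wordG 0) = 1
        rw [← mul_assoc, cG_sq, one_mul, word_zero]
      exact (pG_eq_one h2).2
  have hkl : k = l := Fin.ext (Nat.xor_eq_zero_iff.mp (congrArg Fin.val hk))
  subst hkl
  refine Prod.ext ?_ rfl
  cases e <;> cases d
  · rfl
  · exact absurd (pG_eq_one (k := 0) (e := true) (by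
      show cG * wordG 0 = 1
      rw [word_zero, mul_one]; exact mul_eq_right.mp (show cG * wordG k = wordG k from h.symm))).1 (by simp)
  · exact absurd (pG_eq_one (k := 0) (e := true) (by
      show cG * wordG 0 = 1
      rw [word_zero, mul_one]; exact mul_eq_right.mp (show cG * wordG k = wordG k from h))).1 (by simp)
  · rfl

/-- the two elements outside -/
def offS (i : Fin 2) : ℕ × ℕ := offSP.getD i.val (0, 0)

theorem off_ok : (∀ i : Fin 2, spOK (offS i) = true ∧ fixOct (spL (offS i)) = true ∧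
    commA (spL (offS i)) = false) ∧ commA (fun l => spL (offS 0) (spL (offS 1) l)) = false ∧
    mulC (offS 0) (offS 0) = (0, H90.idN) := by decide +kernel

theorem card_Qa : Nat.card Qa = 128 := by
  haveI : Finite Co0 := co0_finite
  obtain ⟨hok, h01, hsq⟩ := off_ok
  refine le_antisymm ?_ ?_
  · set L0 := spListed (offS 0) (hok 0).1
    set L1 := spListed (offS 1) (hok 1).1
    let k0 : Kg := ⟨L0.g, mem_Kg_of_fixOct (a := L0) (hok 0).2.1⟩
    let k1 : Kg := ⟨L1.g, mem_Kg_of_fixOct (a := L1) (hok 1).2.1⟩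
    set H := Qa.subgroupOf Kg with hH
    have hmem : ∀ {x : Kg}, x ∈ H → x.1 * aG = aG * x.1 := fun hx => (mem_Qa.mp hx).2
    have h0 : k0 ∉ H := fun hx => not_comm_a (a := L0) (hok 0).2.2 (hmem hx)
    have h1 : k1 ∉ H := fun hx => not_comm_a (a := L1) (hok 1).2.2 (hmem hx)
    have hk0 : k0 * k0 = 1 := Subtype.ext (((spElt_coded (hok 0).1).mul (spElt_coded (hok 0).1)).unique
      (hsq ▸ coded_one))
    have h2 : k0⁻¹ * k1 ∉ H := fun hx => by
      rw [inv_eq_of_mul_eq_one_right hk0] at hx
      exact not_comm_a (a := L0.mul L1) h01 (hmem hx)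
    have hidx : 3 ≤ H.index := by
      rw [Subgroup.index_eq_card]
      haveI : Fintype (Kg ⧸ H) := Fintype.ofFinite _
      classical
      rw [Nat.card_eq_fintype_card]
      have hc : ({QuotientGroup.mk 1, QuotientGroup.mk k0, QuotientGroup.mk k1} : Finset (Kg ⧸ H)).card = 3 := by
        rw [Finset.card_eq_three]
        refine ⟨_, _, _, ?_, ?_, ?_, rfl⟩ <;> rw [Ne, QuotientGroup.eq]
        · rwa [inv_one, one_mul]
        · rwa [inv_one, one_mul]
        · exact h2
      exact hc ▸ Finset.card_le_univ _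
    have hd : H.index ∣ 2 ^ 9 := by
      rw [show 2 ^ 9 = Nat.card Kg by rw [card_Kg]; norm_num]; exact H.index_dvd_card
    have hi : 4 ≤ H.index := by
      obtain ⟨i, hi, e⟩ := (Nat.dvd_prime_pow Nat.prime_two).mp hd
      rw [e] at hidx ⊢
      rcases i with _ | _ | i
      · norm_num at hidx
      · norm_num at hidx
      · calc 4 = 2 ^ 2 := by norm_num
          _ ≤ _ := Nat.pow_le_pow_right (by norm_num) (by omega)
    have h := H.card_mul_index
    rw [Nat.card_congr (Subgroup.subgroupOfEquivOfLe (show Qa ≤ Kg from inf_le_left)).toEquiv, card_Kg] at h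
    nlinarith
  · calc 128 = Nat.card (Bool × Fin 64) := by simp
      _ ≤ Nat.card Qa := Nat.card_le_card_of_injective (fun p => ⟨pG p.1 p.2, pG_mem p.1 p.2⟩)
          fun p q h => pG_injective (congrArg Subtype.val h)

/-- the parametrisation -/
noncomputable def paramQ : Bool × Fin 64 ≃ Qa :=
  Equiv.ofBijective (fun p => ⟨pG p.1 p.2, pG_mem p.1 p.2⟩) (by
    haveI : Finite Co0 := co0_finite
    refine (Nat.bijective_iff_injective_and_card _).mpr
      ⟨fun p q h => pG_injective (congrArg Subtype.val h), ?_⟩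
    rw [card_Qa]; simp)

/-- coordinates -/
noncomputable def ix (x : Qa) : Fin 64 := (paramQ.symm x).2

theorem ix_spec (x : Qa) : ∃ e, x.1 = pG e (ix x) :=
  ⟨(paramQ.symm x).1, (congrArg Subtype.val (paramQ.apply_symm_apply x)).symm⟩

theorem ix_eq {x : Qa} {e : Bool} {k : Fin 64} (h : x.1 = pG e k) : ix x = k := by
  have : x = paramQ (e, k) := Subtype.ext h
  rw [ix, this, Equiv.symm_apply_apply]

/-- coordinates as a vector -/
noncomputable def piV (x : Qa) : V6 := vec6 (ix x)

theorem piV_mul (x y : Qa) : piV (x * y) = piV x + piV y := by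
  obtain ⟨e, he⟩ := ix_spec x
  obtain ⟨d, hd⟩ := ix_spec y
  obtain ⟨f, hf⟩ := pG_mul e d (ix x) (ix y)
  rw [piV, ix_eq (x := x * y) (show (x * y : Qa).1 = pG f _ by rw [Subgroup.coe_mul, he, hd, hf]),
    vec6_x6]
  rfl

theorem piV_surj (v : V6) : ∃ x, piV x = v := by
  obtain ⟨k, rfl⟩ := vec6_bij.2 v
  exact ⟨⟨pG false k, pG_mem false k⟩, by rw [piV, ix_eq (e := false) rfl]⟩

theorem piV_eq_zero {x : Qa} (h : piV x = 0) : x.1 = 1 ∨ x.1 = cG := by
  have hk : ix x = 0 := vec6_bij.1 (h.trans (by decide +kernel))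
  obtain ⟨e, he⟩ := ix_spec x
  rw [hk] at he
  cases e
  · exact Or.inl (by rw [he, pG_false, word_zero])
  · exact Or.inr (by rw [he]; show cG * wordG 0 = cG; rw [word_zero, mul_one])

theorem sq_check : ∀ k : Fin 64,
    mulC (wordC k) (wordC k) = if qm (vec6 k) = 1 then cC else (0, H90.idN) := by decide +kernel

theorem sq_eq (x : Qa) : x.1 * x.1 = if qm (piV x) = 1 then cG else 1 := by
  obtain ⟨e, he⟩ := ix_spec x
  have h := (coded_word (ix x)).mul (coded_word (ix x))
  rw [sq_check] at h
  have hw : wordG (ix x) * wordG (ix x) = if qm (piV x) = 1 then cG else 1 := by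
    rw [piV]
    split_ifs at h ⊢
    · exact h.unique coded_c
    · exact h.unique coded_one
  rw [← hw, he]
  cases e
  · rw [pG_false]
  · show cG * wordG _ * (cG * wordG _) = _
    rw [← mul_assoc, mul_assoc cG, cG_commQ (wordG_mem _), ← mul_assoc, cG_sq, one_mul]

theorem comm_check : ∀ k : Fin 64, k = 0 ∨ ∃ j : Fin 6,
    mulC (wordC k) (qS j) = mulC cC (mulC (qS j) (wordC k)) := by decide +kernel

theorem cG_ne : cG ≠ 1 := fun h => by
  have := (pG_eq_one (e := true) (k := 0) (show cG * wordG 0 = 1 by rw [word_zero, mul_one, h])).1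
  simp at this

theorem exists_flip (x : Qa) (h1 : x.1 ≠ 1) (hc : x.1 ≠ cG) :
    ∃ y : Qa, y.1 * x.1 * y.1⁻¹ = cG * x.1 := by
  obtain ⟨e, he⟩ := ix_spec x
  rcases comm_check (ix x) with hk | ⟨j, hj⟩
  · exfalso
    rcases piV_eq_zero (x := x) (by rw [piV, hk]; decide +kernel) with h | h
    · exact h1 h
    · exact hc h
  refine ⟨⟨qG j, qG_mem j⟩, ?_⟩
  have h := ((coded_word (ix x)).mul (coded_q j)).unique (hj ▸ coded_c.mul ((coded_q j).mul (coded_word (ix x))))
  have hx : x.1 * qG j = cG * (qG j * x.1) := by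
    rw [he]
    cases e
    · exact h
    · show cG * wordG _ * qG j = cG * (qG j * (cG * wordG _))
      rw [mul_assoc, h, ← mul_assoc (qG j), cG_commQ (qG_mem j), mul_assoc]
  show qG j * x.1 * (qG j)⁻¹ = cG * x.1
  calc qG j * x.1 * (qG j)⁻¹ = cG * (cG * (qG j * x.1)) * (qG j)⁻¹ := by
        rw [← mul_assoc cG cG, cG_sq, one_mul]
    _ = cG * x.1 := by rw [← hx]; group

theorem extraspecial_Qa : IsExtraspecial 2 Qa := by
  haveI : Finite Co0 := co0_finite
  let c : Qa := ⟨cG, cG_mem⟩
  refine H69.isExtraspecial_two_of c (IsPGroup.of_card (n := 7) (by rw [card_Qa]; norm_num))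
    (fun x => ?_) (fun x y => ?_) ?_ (fun x hx => ?_)
  · have h := sq_eq x
    split_ifs at h
    · exact Or.inr (Subtype.ext h)
    · exact Or.inl (Subtype.ext h)
  · have h0 : piV (x * y * (y * x)⁻¹) = 0 := by
      have hinv : piV ((y * x)⁻¹) = piV (y * x) := by
        have h := piV_mul (y * x)⁻¹ (y * x)
        rw [inv_mul_cancel, show piV 1 = 0 from ?_] at h
        · exact funext fun i => (CharTwo.add_eq_zero.mp (congrFun h i).symm)
        · have := piV_mul 1 1
          rw [mul_one] at this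
          exact add_eq_left.mp this.symm
      rw [piV_mul, hinv, piV_mul, piV_mul, add_comm (piV y) (piV x)]
      exact funext fun i => CharTwo.add_self_eq_zero ((piV x + piV y) i)
    rcases piV_eq_zero h0 with h | h
    · exact Or.inl (mul_inv_eq_one.mp (Subtype.ext h))
    · exact Or.inr (mul_inv_eq_iff_eq_mul.mp (Subtype.ext h : x * y * (y * x)⁻¹ = c))
  · by_contra hall
    push_neg at hall
    let x : Qa := ⟨pG false 1, pG_mem _ _⟩
    obtain ⟨y, hy⟩ := exists_flip x
      (fun h => by have := (pG_eq_one (e := false) (k := 1) h).2; simp at this)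
      (fun h => by
        have := congrArg Prod.snd (pG_injective (a₁ := (false, (1 : Fin 64))) (a₂ := (true, 0))
          (show pG false 1 = pG true 0 by
            rw [show pG true 0 = cG * wordG 0 from rfl, word_zero, mul_one]; exact h))
        simp at this)
    have h2 : y.1 * x.1 = x.1 * y.1 := congrArg Subtype.val (hall y x)
    rw [h2, mul_inv_cancel_right] at hy
    exact cG_ne (mul_eq_right.mp hy.symm)
  · by_contra hne
    push_neg at hne
    obtain ⟨y, hy⟩ := exists_flip x (fun h => hne.1 (Subtype.ext h)) (fun h => hne.2 (Subtype.ext h))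
    have h2 : y.1 * x.1 = x.1 * y.1 := congrArg Subtype.val (hx y)
    rw [h2, mul_inv_cancel_right] at hy
    exact cG_ne (mul_eq_right.mp hy.symm)

end H79.Suz
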