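import Cfsg.Agent.H79.Suz.Elem
import Cfsg.Agent.H79.Suz.QPart
import Cfsg.Agent.H79.Suz.Chain

/-!
An upper bound for the centraliser of the element of order three: its image modulo two preserves a
hermitian structure in dimension four.
-/

set_option autoImplicit false

namespace H79.Suz

open Cfsg H95 H95.Co2Cent H96.Co1Oct Finset

/-- rows of the action of the element of order three modulo two -/
def aMasks : List ℕ := [204, 193, 186, 120, 56, 104, 88, 87]

/-- the action of the element of order three modulo two -/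
def AM : Matrix Ix Ix (ZMod 2) := Matrix.of fun a b => vecOf (aMasks.getD (num a) 0) b

theorem AM_check : ∀ a b : Ix,
    ((numer a (fun j => mulE aRows (spread (rowF basisRows (num b))) (oL j) / 8) / 16 : ℤ) : ZMod 2)
      = vecOf (aMasks.getD (num a) 0) b := by decide +kernel

theorem matOf_a : matOf ⟨aG, a_mem⟩ = AM := Matrix.ext fun a b => AM_check a b

/-- base of the hermitian structure -/
def hb (i : ℕ) : Ix → ZMod 2 := vecOf (hermBasis.getD i 0)

/-- its image under the element of order three -/
def hbA (i : ℕ) : Ix → ZMod 2 := Matrix.mulVec AM (hb i)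

/-- the polar form -/
def bil (u v : Ix → ZMod 2) : ZMod 2 := qf (u + v) + qf u + qf v

/-- candidates for the image of the `i`th base vector -/
def cand (i : ℕ) : Finset (Ix → ZMod 2) :=
  univ.filter fun u => qf u = 1 ∧ ∀ j : Fin 4, j.val < i → bil u (hb j.val) = 0 ∧ bil u (hbA j.val) = 0

theorem cand_check : ∀ i : Fin 4, (cand i.val).card = [120, 36, 6, 3].getD i.val 0 ∧ hb i.val ∈ cand i.val := by
  decide +kernel

/-- the eight spanning vectors -/
def spanVec (n : Fin 8) : Ix → ZMod 2 := if n.val % 2 = 0 then hb (n.val / 2) else hbA (n.val / 2)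

/-- a sum of spanning vectors -/
def spanSum (m : ℕ) : Ix → ZMod 2 := ∑ n : Fin 8, if m.testBit n.val then spanVec n else 0

theorem span_std : ∀ b : Ix, spanSum (hermCoef.getD (num b) 0) = Pi.single b 1 := by decide +kernel

/-- the image modulo two -/
noncomputable def imR : Subgroup (isometryGroup (ZMod 2) qf) :=
  (rho.comp (Subgroup.inclusion (inf_le_left : Cga ≤ Cg))).range

theorem imR_mul (g : imR) :
    (((g : isometryGroup (ZMod 2) qf) : GL Ix (ZMod 2)) : Matrix Ix Ix (ZMod 2)) * AM =
      AM * (((g : isometryGroup (ZMod 2) qf) : GL Ix (ZMod 2)) : Matrix Ix Ix (ZMod 2)) := by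
  obtain ⟨_, x, rfl⟩ := g
  show matHom ⟨x.1, x.2.1⟩ * AM = AM * matHom ⟨x.1, x.2.1⟩
  rw [← matOf_a]
  show matHom _ * matHom _ = matHom _ * matHom _
  rw [← map_mul, ← map_mul]
  exact congrArg matHom (Subtype.ext (mem_Cga.mp x.2).2)

theorem card_imR : Nat.card imR ≤ 77760 := by
  haveI : Finite Co0 := co0_finite
  haveI : Finite imR := Finite.of_surjective _
    (rho.comp (Subgroup.inclusion (inf_le_left : Cga ≤ Cg))).rangeRestrict_surjective
  letI := actIso (ι := Ix) (F := ZMod 2) qf
  have hact : ∀ (g : imR) (v : Ix → ZMod 2),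
      g • v = Matrix.mulVec (((g : isometryGroup (ZMod 2) qf) : GL Ix (ZMod 2)) : Matrix Ix Ix (ZMod 2)) v :=
    fun _ _ => rfl
  have hq : ∀ (g : imR) (v : Ix → ZMod 2), qf (g • v) = qf v := fun g v => g.1.2 v v
  have hA : ∀ (g : imR) (v : Ix → ZMod 2),
      g • Matrix.mulVec AM v = Matrix.mulVec AM (g • v) := fun g v => by
    rw [hact, hact, Matrix.mulVec_mulVec, Matrix.mulVec_mulVec, imR_mul]
  have hbil : ∀ (g : imR) (u v : Ix → ZMod 2), bil (g • u) (g • v) = bil u v := fun g u v => by
    have e : g • (u + v) = g • u + g • v := by rw [hact, hact, hact, Matrix.mulVec_add]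
    rw [bil, bil, ← e, hq, hq, hq]
  have h := chain_upper (G := imR) hb (fun i => [120, 36, 6, 3].getD i 0) 4 (fun i hi => ?_) (fun g hg => ?_)
  · simpa [Finset.prod_range_succ] using h
  · obtain ⟨hc, hm⟩ := cand_check ⟨i, hi⟩
    refine ⟨cand i, hc.le, fun g hg => ?_⟩
    simp only [cand, mem_filter, mem_univ, true_and] at hm ⊢
    refine ⟨by rw [hq]; exact hm.1, fun j hj => ?_⟩
    obtain ⟨h1, h2⟩ := hm.2 j hj
    have e1 := hg j.val hj
    have e2 : g • hbA j.val = hbA j.val := by rw [hbA, hA, e1]
    constructor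
    · rw [← e1, hbil]; exact h1
    · rw [← e2, hbil]; exact h2
  · refine Subtype.ext (Subtype.ext (Units.ext ?_))
    refine Matrix.ext_of_mulVec_single fun b => ?_
    show g • (Pi.single b 1 : Ix → ZMod 2) = Matrix.mulVec 1 (Pi.single b 1)
    rw [Matrix.one_mulVec]
    have hfix : ∀ n : Fin 8, g • spanVec n = spanVec n := fun n => by
      have hn : n.val / 2 < 4 := by omega
      rw [spanVec]
      split
      · exact hg _ hn
      · rw [hbA, hA, hg _ hn]
    rw [← span_std b, hact, spanSum, Matrix.mulVec_sum]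
    refine sum_congr rfl fun n _ => ?_
    split
    · exact hfix n
    · exact Matrix.mulVec_zero _

theorem card_Cga : Nat.card Cga ≤ 256 * 77760 := by
  haveI : Finite Co0 := co0_finite
  classical
  set φ := rho.comp (Subgroup.inclusion (inf_le_left : Cga ≤ Cg)) with hφ
  have h1 := Subgroup.card_eq_card_quotient_mul_card_subgroup φ.ker
  rw [Nat.card_congr (QuotientGroup.quotientKerEquivRange φ).toEquiv] at h1
  have h2 : Nat.card φ.ker ≤ 256 := by
    have hmem : ∀ g : φ.ker, g.1.1 ∉ Kg → negOne * g.1.1 ∈ Qa := by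
      intro g hg
      have h := rho_ker.mp (MonoidHom.mem_ker.mpr g.2)
      refine mem_Qa.mpr ⟨h.resolve_left hg, ?_⟩
      rw [mul_assoc, (mem_Cga.mp g.1.2).2, ← mul_assoc, ← negOne_comm', mul_assoc]
    calc Nat.card φ.ker ≤ Nat.card (Bool × Qa) := Nat.card_le_card_of_injective
          (fun g => if h : g.1.1 ∈ Kg then (false, ⟨g.1.1, h, g.1.2.2⟩) else (true, ⟨_, hmem g h⟩))
          (fun x y e => by
            dsimp only at e
            split_ifs at e with hx hy hy
            · exact Subtype.ext (Subtype.ext (congrArg (fun p : Bool × Qa => p.2.1) e))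
            · simp at e
            · simp at e
            · exact Subtype.ext (Subtype.ext (mul_left_cancel (congrArg (fun p : Bool × Qa => p.2.1) e))))
      _ = 256 := by rw [Nat.card_prod, card_Qa]; simp
  show Nat.card ↥(Cg ⊓ Subgroup.centralizer {aG}) ≤ _
  rw [h1]
  calc Nat.card φ.range * Nat.card φ.ker ≤ 77760 * 256 := Nat.mul_le_mul card_imR h2
    _ = 256 * 77760 := by norm_num

end H79.Suz
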