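import Cfsg.Agent.H68.CharP

/-!
Simplicity from the centraliser of an involution of large extraspecial type, with no knowledge of
the order of the group.
-/

set_option autoImplicit false

namespace H79.Suz

open Cfsg

variable {S : Type*} [Group S] [Finite S]

/-- conjugation on a normal subgroup -/
def conjN (N : Subgroup S) [N.Normal] (z : S) : N →* N where
  toFun x := ⟨z * x.1 * z⁻¹, ‹N.Normal›.conj_mem x.1 x.2 z⟩
  map_one' := Subtype.ext (by simp)
  map_mul' x y := Subtype.ext (by show z * (x.1 * y.1) * z⁻¹ = z * x.1 * z⁻¹ * (z * y.1 * z⁻¹); group)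

theorem inverts {N : Subgroup S} [N.Normal] {u : S} (hu : u * u = 1)
    (h : ∀ x ∈ N, x * u = u * x → x = 1) : ∀ x ∈ N, u * x * u⁻¹ = x⁻¹ := by
  intro x hx
  have hf : MonoidHom.FixedPointFree (conjN N u) := fun y hy => Subtype.ext <| h y.1 y.2 <| by
    have e : u * y.1 * u⁻¹ = y.1 := congrArg Subtype.val hy
    exact (mul_inv_eq_iff_eq_mul.mp e).symm
  have hinv : Function.Involutive (conjN N u) := fun y => Subtype.ext (by
    show u * (u * y.1 * u⁻¹) * u⁻¹ = y.1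
    calc u * (u * y.1 * u⁻¹) * u⁻¹ = (u * u) * y.1 * (u * u)⁻¹ := by group
      _ = y.1 := by rw [hu]; group)
  exact congrArg Subtype.val (congrFun (hf.coe_eq_inv_of_involutive hinv) ⟨x, hx⟩)

variable {z : S}

/-- the centraliser -/
abbrev Cz (z : S) : Subgroup S := Subgroup.centralizer ({z} : Set S)

/-- a normal subgroup avoiding the extraspecial group is trivial -/
theorem eq_bot_of_disjoint {Q : Subgroup (Cz z)} [Q.Normal]
    (hcent : Subgroup.centralizer (Q : Set (Cz z)) ≤ Q)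
    (hz2 : z * z = 1) {g y : S} (hv : y * z * y⁻¹ = z * (g * z * g⁻¹))
    {N : Subgroup S} [N.Normal]
    (hd : ∀ x : Cz z, x.1 ∈ N → x ∈ Q → x = 1) : N = ⊥ := by
  have hfix : ∀ x ∈ N, x * z = z * x → x = 1 := by
    intro x hx hc
    have hxC : x ∈ (Cz z) := Subgroup.mem_centralizer_singleton_iff.mpr hc
    refine congrArg Subtype.val (hd ⟨x, hxC⟩ hx (hcent (Subgroup.mem_centralizer_iff.mpr
      fun q hq => ?_)))
    have h1 : (⟨x, hxC⟩ : (Cz z)) * q * (⟨x, hxC⟩ : (Cz z))⁻¹ * q⁻¹ = 1 := by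
      refine hd _ ?_ (Q.mul_mem (‹Q.Normal›.conj_mem q hq _) (Q.inv_mem hq))
      show x * q.1 * x⁻¹ * q.1⁻¹ ∈ N
      rw [show x * q.1 * x⁻¹ * q.1⁻¹ = x * (q.1 * x⁻¹ * q.1⁻¹) by group]
      exact N.mul_mem hx (‹N.Normal›.conj_mem _ (N.inv_mem hx) _)
    exact (mul_inv_eq_iff_eq_mul.mp (mul_inv_eq_one.mp h1)).symm
  have hconj : ∀ w : S, ∀ x ∈ N, x * (w * z * w⁻¹) = (w * z * w⁻¹) * x → x = 1 := by
    intro w x hx hc
    have h := hfix (w⁻¹ * x * w) (by simpa using ‹N.Normal›.conj_mem x hx w⁻¹) (by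
      calc w⁻¹ * x * w * z = w⁻¹ * (x * (w * z * w⁻¹)) * w := by group
        _ = z * (w⁻¹ * x * w) := by rw [hc]; group)
    calc x = w * (w⁻¹ * x * w) * w⁻¹ := by group
      _ = 1 := by rw [h]; group
  refine (Subgroup.eq_bot_iff_forall _).mpr fun x hx => ?_
  have i1 := inverts hz2 hfix
  have i2 := inverts (u := g * z * g⁻¹)
    (by rw [show g * z * g⁻¹ * (g * z * g⁻¹) = g * (z * z) * g⁻¹ by group, hz2]; group) (hconj g)
  refine hconj y x hx ?_
  rw [hv]
  set t := g * z * g⁻¹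
  have e1 : t * x = x⁻¹ * t := mul_inv_eq_iff_eq_mul.mp (i2 x hx)
  have e2 : z * x⁻¹ = x * z := by
    have := mul_inv_eq_iff_eq_mul.mp (i1 _ (N.inv_mem hx))
    rwa [inv_inv] at this
  calc x * (z * t) = z * x⁻¹ * t := by rw [e2, mul_assoc]
    _ = z * (t * x) := by rw [e1, mul_assoc]
    _ = z * t * x := (mul_assoc _ _ _).symm

/-- the criterion -/
theorem simple_of_centralizer (hz : orderOf z = 2)
    {Q : Subgroup (Cz z)} [Q.Normal]
    (hp : IsPGroup 2 Q) (hzQ : ∀ x : Cz z, x.1 = z → x ∈ Q)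
    {K : Type*} [Group K] [IsSimpleGroup K] (hK : Subgroup.center K = ⊥)
    (χ : Cz z →* K) (hχ : Function.Surjective χ) (hker : χ.ker = Q)
    (hcent : Subgroup.centralizer (Q : Set (Cz z)) ≤ Q)
    (hext : ∀ x ∈ Q, x.1 ≠ 1 → x.1 ≠ z → ∃ y ∈ Q, y.1 * x.1 * y.1⁻¹ = z * x.1)
    {g : S} (hgne : g * z * g⁻¹ ≠ z) (tC : Cz z)
    (htC : tC.1 = g * z * g⁻¹) (htQ : tC ∈ Q)
    (hirr : ∀ M : Subgroup (Cz z), M.Normal → tC ∈ M → Q ≤ M)
    {h : S} (hC : Cz z) (hhC : hC.1 = h * z * h⁻¹) (hhQ : hC ∉ Q) :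
    IsSimpleGroup S ∧ ¬ IsMulCommutative S ∧
      generalizedFittingSubgroup (Cz z) = Q := by
  haveI := Fact.mk Nat.prime_two
  have hz1 : z ≠ 1 := fun e => by simp [e] at hz
  have hz2 : z * z = 1 := by rw [← pow_two, ← hz, pow_orderOf_eq_one]
  refine ⟨?_, fun hc => hgne (by rw [hc.is_comm.comm g z]; group), ?_⟩
  swap
  · have hcore : pCore 2 (Cz z) = Q := by
      refine le_antisymm ?_ (Comp.le_pCore inferInstance hp)
      rw [← hker]
      have hn : ((pCore 2 (Cz z)).map χ).Normal := Subgroup.Normal.map inferInstance χ hχ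
      rcases hn.eq_bot_or_eq_top with e | e
      · exact (Subgroup.map_eq_bot_iff _).mp e
      · exfalso
        have hP := (Comp.pCore_isPGroup (G := (Cz z)) 2).map χ
        rw [e] at hP
        haveI : Finite K := Finite.of_surjective _ hχ
        haveI := (hP.of_equiv Subgroup.topEquiv).center_nontrivial
        exact (Subgroup.nontrivial_iff_ne_bot _).mp inferInstance hK
    rw [H68.gfs_eq_pCore_of_centralizer (p := 2) (by rw [hcore]; exact hcent), hcore]
  haveI : Nontrivial S := ⟨⟨z, 1, hz1⟩⟩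
  refine ⟨fun N hN => ?_⟩
  by_cases hd : ∀ x : (Cz z), x.1 ∈ N → x ∈ Q → x = 1
  · left
    have ht1 : tC.1 ≠ 1 := fun e => hz1 (by
      rw [htC, conj_eq_one_iff] at e; exact e)
    obtain ⟨y, -, hy⟩ := hext tC htQ ht1 (fun e => hgne (htC ▸ e))
    rw [htC] at hy
    refine eq_bot_of_disjoint hcent hz2 (g := g) (y := y.1 * g) ?_ hd
    rw [← hy]; group
  right
  push_neg at hd
  obtain ⟨x, hxN, hxQ, hx1⟩ := hd
  have hzN : z ∈ N := by
    by_cases e : x.1 = z
    · exact e ▸ hxN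
    · obtain ⟨y, -, hy⟩ := hext x hxQ (fun e => hx1 (Subtype.ext e)) e
      rw [show z = y.1 * x.1 * y.1⁻¹ * x.1⁻¹ by rw [hy]; group]
      exact N.mul_mem (hN.conj_mem _ hxN _) (N.inv_mem hxN)
  have hCN : (Cz z) ≤ N := by
    have hQM : Q ≤ N.subgroupOf (Cz z) := hirr _ inferInstance
      (show tC.1 ∈ N by rw [htC]; exact hN.conj_mem z hzN g)
    have hm : ((N.subgroupOf (Cz z)).map χ).Normal := Subgroup.Normal.map inferInstance χ hχ
    rcases hm.eq_bot_or_eq_top with e | e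
    · exfalso
      exact hhQ (hker ▸ (Subgroup.map_eq_bot_iff _).mp e
        (show hC.1 ∈ N by rw [hhC]; exact hN.conj_mem z hzN h))
    · intro c hc
      obtain ⟨m, hm, he⟩ := e.ge (Subgroup.mem_top (χ ⟨c, hc⟩))
      have h1 : m⁻¹ * ⟨c, hc⟩ ∈ N.subgroupOf (Cz z) := hQM (hker ▸ (by
        rw [MonoidHom.mem_ker, map_mul, map_inv, he, inv_mul_cancel]))
      have h2 := Subgroup.mul_mem _ hm h1
      rw [mul_inv_cancel_left] at h2
      exact h2
  obtain ⟨P, hP⟩ := (hp.map (Cz z).subtype).exists_le_sylow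
  have hzP : z ∈ P := by
    refine hP ⟨⟨z, Subgroup.mem_centralizer_singleton_iff.mpr rfl⟩, hzQ _ rfl, rfl⟩
  have key : ∀ w ∈ (P : Subgroup S), w ≠ 1 → (∀ v ∈ (P : Subgroup S), v * w = w * v) → w = z := by
    intro w _ hw hwc
    have hwC : w ∈ (Cz z) := Subgroup.mem_centralizer_singleton_iff.mpr (hwc z hzP).symm
    have hwQ : (⟨w, hwC⟩ : (Cz z)) ∈ Q := hcent (Subgroup.mem_centralizer_iff.mpr fun q hq =>
      Subtype.ext (hwc q.1 (hP ⟨q, hq, rfl⟩)))
    by_contra hne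
    obtain ⟨v, hvQ, hv⟩ := hext _ hwQ hw hne
    refine hz1 ?_
    have e := hwc v.1 (hP ⟨v, hvQ, rfl⟩)
    rw [e, mul_inv_cancel_right] at hv
    exact (mul_eq_right.mp hv.symm)
  haveI : Nontrivial (P : Subgroup S) := ⟨⟨⟨z, hzP⟩, 1, fun e => hz1 (congrArg Subtype.val e)⟩⟩
  haveI := P.isPGroup'.center_nontrivial
  obtain ⟨⟨w, hw⟩, hw1⟩ := exists_ne (1 : Subgroup.center (P : Subgroup S))
  have hwz : w.1 = z := key w.1 w.2 (fun e => hw1 (Subtype.ext (Subtype.ext e))) fun v hv =>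
    congrArg Subtype.val (Subgroup.mem_center_iff.mp hw ⟨v, hv⟩)
  have hzc : ∀ v ∈ (P : Subgroup S), v * z = z * v := fun v hv =>
    hwz ▸ congrArg Subtype.val (Subgroup.mem_center_iff.mp hw ⟨v, hv⟩)
  have hPC : (P : Subgroup S) ≤ (Cz z) := fun v hv => Subgroup.mem_centralizer_singleton_iff.mpr (hzc v hv)
  have hnorm : Subgroup.normalizer ((P : Subgroup S) : Set S) ≤ (Cz z) := by
    intro n hn
    refine Subgroup.mem_centralizer_singleton_iff.mpr ?_
    have hm := (Subgroup.mem_normalizer_iff.mp hn z).mp hzP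
    have e := key _ hm (fun e => hz1 (conj_eq_one_iff.mp e)) fun v hv => by
      have hv' : n⁻¹ * v * n ∈ (P : Subgroup S) := (Subgroup.mem_normalizer_iff.mp hn _).mpr (by
        rwa [show n * (n⁻¹ * v * n) * n⁻¹ = v by group])
      calc v * (n * z * n⁻¹) = n * ((n⁻¹ * v * n) * z) * n⁻¹ := by group
        _ = n * z * n⁻¹ * v := by rw [hzc _ hv']; group
    exact mul_inv_eq_iff_eq_mul.mp e
  have hFr := Sylow.normalizer_sup_eq_top (P.subtype (le_trans hPC hCN))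
  rw [Sylow.coe_subtype, Subgroup.map_subgroupOf_eq_of_le (le_trans hPC hCN)] at hFr
  exact top_le_iff.mp (hFr ▸ sup_le (le_trans hnorm hCN) le_rfl)

end H79.Suz
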