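/-!
Certificate data for a simple section of the lattice group: an element of order three commuting with
the sign change on an octad and its centraliser (found by a search script).
-/

set_option autoImplicit false

namespace H79.Suz

/-- eight times the element of order three -/
def aRows : List (List Int) := [
   [(-4), 4, (-4), 0, 0, 0, 0, 0, 0, 0, (-4), 0, 0, 0, 0, 0, 0, 0, 0, 0, 0, 0, 0, 0],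
   [(-4), (-4), 4, 0, 0, 0, 0, 0, 0, 0, (-4), 0, 0, 0, 0, 0, 0, 0, 0, 0, 0, 0, 0, 0],
   [4, (-4), (-4), 0, 0, 0, 0, 0, 0, 0, (-4), 0, 0, 0, 0, 0, 0, 0, 0, 0, 0, 0, 0, 0],
   [0, 0, 0, (-4), 4, 0, 0, 4, 0, 0, 0, 0, 4, 0, 0, 0, 0, 0, 0, 0, 0, 0, 0, 0],
   [0, 0, 0, (-4), (-4), 0, 0, (-4), 0, 0, 0, 0, 4, 0, 0, 0, 0, 0, 0, 0, 0, 0, 0, 0],
   [0, 0, 0, 0, 0, (-4), 0, 0, (-4), 0, 0, 0, 0, 0, 0, 0, 0, 0, 0, 0, 0, 4, (-4), 0],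
   [0, 0, 0, 0, 0, 0, (-4), 0, 0, 0, 0, 0, 0, 0, 0, 0, 4, 4, 4, 0, 0, 0, 0, 0],
   [0, 0, 0, (-4), 4, 0, 0, (-4), 0, 0, 0, 0, (-4), 0, 0, 0, 0, 0, 0, 0, 0, 0, 0, 0],
   [0, 0, 0, 0, 0, 4, 0, 0, (-4), 0, 0, 0, 0, 0, 0, 0, 0, 0, 0, 0, 0, (-4), (-4), 0],
   [0, 0, 0, 0, 0, 0, 0, 0, 0, (-4), 0, 0, 0, 0, 0, 4, 0, 0, 0, 0, 4, 0, 0, 4],
   [4, 4, 4, 0, 0, 0, 0, 0, 0, 0, (-4), 0, 0, 0, 0, 0, 0, 0, 0, 0, 0, 0, 0, 0],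
   [0, 0, 0, 0, 0, 0, 0, 0, 0, 0, 0, (-4), 0, 4, 4, 0, 0, 0, 0, 4, 0, 0, 0, 0],
   [0, 0, 0, (-4), (-4), 0, 0, 4, 0, 0, 0, 0, (-4), 0, 0, 0, 0, 0, 0, 0, 0, 0, 0, 0],
   [0, 0, 0, 0, 0, 0, 0, 0, 0, 0, 0, (-4), 0, (-4), (-4), 0, 0, 0, 0, 4, 0, 0, 0, 0],
   [0, 0, 0, 0, 0, 0, 0, 0, 0, 0, 0, (-4), 0, 4, (-4), 0, 0, 0, 0, (-4), 0, 0, 0, 0],
   [0, 0, 0, 0, 0, 0, 0, 0, 0, (-4), 0, 0, 0, 0, 0, (-4), 0, 0, 0, 0, (-4), 0, 0, 4],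
   [0, 0, 0, 0, 0, 0, (-4), 0, 0, 0, 0, 0, 0, 0, 0, 0, (-4), 4, (-4), 0, 0, 0, 0, 0],
   [0, 0, 0, 0, 0, 0, (-4), 0, 0, 0, 0, 0, 0, 0, 0, 0, (-4), (-4), 4, 0, 0, 0, 0, 0],
   [0, 0, 0, 0, 0, 0, (-4), 0, 0, 0, 0, 0, 0, 0, 0, 0, 4, (-4), (-4), 0, 0, 0, 0, 0],
   [0, 0, 0, 0, 0, 0, 0, 0, 0, 0, 0, (-4), 0, (-4), 4, 0, 0, 0, 0, (-4), 0, 0, 0, 0],
   [0, 0, 0, 0, 0, 0, 0, 0, 0, (-4), 0, 0, 0, 0, 0, 4, 0, 0, 0, 0, (-4), 0, 0, (-4)],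
   [0, 0, 0, 0, 0, (-4), 0, 0, 4, 0, 0, 0, 0, 0, 0, 0, 0, 0, 0, 0, 0, (-4), (-4), 0],
   [0, 0, 0, 0, 0, 4, 0, 0, 4, 0, 0, 0, 0, 0, 0, 0, 0, 0, 0, 0, 0, 4, (-4), 0],
   [0, 0, 0, 0, 0, 0, 0, 0, 0, (-4), 0, 0, 0, 0, 0, (-4), 0, 0, 0, 0, 4, 0, 0, (-4)]]

/-- eight times an element commuting with it -/
def sRows : List (List Int) := [
   [(-4), 4, 4, 4, 0, 0, 0, 0, 0, 0, 0, 0, 0, 0, 0, 0, 0, 0, 0, 0, 0, 0, 0, 0],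
   [4, (-4), 4, 4, 0, 0, 0, 0, 0, 0, 0, 0, 0, 0, 0, 0, 0, 0, 0, 0, 0, 0, 0, 0],
   [4, 4, (-4), 4, 0, 0, 0, 0, 0, 0, 0, 0, 0, 0, 0, 0, 0, 0, 0, 0, 0, 0, 0, 0],
   [4, 4, 4, (-4), 0, 0, 0, 0, 0, 0, 0, 0, 0, 0, 0, 0, 0, 0, 0, 0, 0, 0, 0, 0],
   [0, 0, 0, 0, 4, 0, 0, (-4), 0, 0, (-4), 0, (-4), 0, 0, 0, 0, 0, 0, 0, 0, 0, 0, 0],
   [0, 0, 0, 0, 0, 4, 0, 0, 0, 0, 0, 0, 0, 0, (-4), 0, 0, (-4), 0, 0, 0, 0, 0, (-4)],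
   [0, 0, 0, 0, 0, 0, 4, 0, 0, (-4), 0, (-4), 0, 0, 0, 0, 0, 0, 0, 0, 0, 0, (-4), 0],
   [0, 0, 0, 0, (-4), 0, 0, 4, 0, 0, (-4), 0, (-4), 0, 0, 0, 0, 0, 0, 0, 0, 0, 0, 0],
   [0, 0, 0, 0, 0, 0, 0, 0, 4, 0, 0, 0, 0, 0, 0, (-4), (-4), 0, 0, (-4), 0, 0, 0, 0],
   [0, 0, 0, 0, 0, 0, (-4), 0, 0, 4, 0, (-4), 0, 0, 0, 0, 0, 0, 0, 0, 0, 0, (-4), 0],
   [0, 0, 0, 0, (-4), 0, 0, (-4), 0, 0, 4, 0, (-4), 0, 0, 0, 0, 0, 0, 0, 0, 0, 0, 0],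
   [0, 0, 0, 0, 0, 0, (-4), 0, 0, (-4), 0, 4, 0, 0, 0, 0, 0, 0, 0, 0, 0, 0, (-4), 0],
   [0, 0, 0, 0, (-4), 0, 0, (-4), 0, 0, (-4), 0, 4, 0, 0, 0, 0, 0, 0, 0, 0, 0, 0, 0],
   [0, 0, 0, 0, 0, 0, 0, 0, 0, 0, 0, 0, 0, 4, 0, 0, 0, 0, (-4), 0, (-4), (-4), 0, 0],
   [0, 0, 0, 0, 0, (-4), 0, 0, 0, 0, 0, 0, 0, 0, 4, 0, 0, (-4), 0, 0, 0, 0, 0, (-4)],
   [0, 0, 0, 0, 0, 0, 0, 0, (-4), 0, 0, 0, 0, 0, 0, 4, (-4), 0, 0, (-4), 0, 0, 0, 0],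
   [0, 0, 0, 0, 0, 0, 0, 0, (-4), 0, 0, 0, 0, 0, 0, (-4), 4, 0, 0, (-4), 0, 0, 0, 0],
   [0, 0, 0, 0, 0, (-4), 0, 0, 0, 0, 0, 0, 0, 0, (-4), 0, 0, 4, 0, 0, 0, 0, 0, (-4)],
   [0, 0, 0, 0, 0, 0, 0, 0, 0, 0, 0, 0, 0, (-4), 0, 0, 0, 0, 4, 0, (-4), (-4), 0, 0],
   [0, 0, 0, 0, 0, 0, 0, 0, (-4), 0, 0, 0, 0, 0, 0, (-4), (-4), 0, 0, 4, 0, 0, 0, 0],
   [0, 0, 0, 0, 0, 0, 0, 0, 0, 0, 0, 0, 0, (-4), 0, 0, 0, 0, (-4), 0, 4, (-4), 0, 0],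
   [0, 0, 0, 0, 0, 0, 0, 0, 0, 0, 0, 0, 0, (-4), 0, 0, 0, 0, (-4), 0, (-4), 4, 0, 0],
   [0, 0, 0, 0, 0, 0, (-4), 0, 0, (-4), 0, (-4), 0, 0, 0, 0, 0, 0, 0, 0, 0, 0, 4, 0],
   [0, 0, 0, 0, 0, (-4), 0, 0, 0, 0, 0, 0, 0, 0, (-4), 0, 0, (-4), 0, 0, 0, 0, 0, 4]]

/-- a signed permutation commuting with it -/
def tSP : Nat × Nat := (351362, 718788756223521933001387399462660097)

/-- six elements of the extraspecial part -/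
def qSP : List (Nat × Nat) := [(1009728, 984818244535754528103549039458486304), (6842656, 984818244535754528103549039458486304), (0, 720981692062171673584743151055243296), (0, 220213109803259289183002082616117280), (4038912, 651239579074641248992907580101724192), (4819776, 380679813245078647833929983948064800)]

/-- images of the six under the two generators -/
def genCols : List (List Nat) := [[9, 6, 4, 8, 16, 32], [2, 3, 30, 23, 33, 49]]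

/-- the accompanying central factors -/
def genSigns : List (List Nat) := [[1, 1, 0, 0, 0, 0], [0, 1, 0, 1, 1, 1]]

/-- base points -/
def basePts : List Nat := [1, 2, 4, 8, 16]

/-- transversal words along the base -/
def transWords : List (List (List Nat)) := [[[], [0], [1], [1, 0], [0, 1], [1, 1], [0, 1, 0], [1, 1, 0], [0, 1, 1], [1, 0, 1, 0], [0, 1, 1, 0], [1, 1, 1, 0], [1, 0, 1, 1], [0, 1, 0, 1, 0], [1, 1, 0, 1, 0], [1, 0, 1, 1, 0], [0, 1, 1, 1, 0], [1, 1, 1, 1, 0], [1, 0, 1, 0, 1, 0], [0, 1, 1, 0, 1, 0], [1, 0, 1, 1, 1, 0], [1, 0, 1, 1, 0, 1, 0], [1, 1, 0, 1, 1, 1, 0], [1, 1, 0, 1, 1, 0, 1, 0], [0, 1, 1, 0, 1, 1, 1, 0], [1, 0, 1, 1, 0, 1, 1, 1, 0], [0, 1, 0, 1, 1, 0, 1, 1, 1, 0]], [[], [0, 1, 0, 1, 0, 1, 1, 0], [1, 0, 1, 1, 1, 1, 1, 0], [1, 1, 0, 1, 0, 1, 1, 1, 1, 0],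 [1, 0, 1, 1, 1, 1, 0, 1, 0, 1], [0, 1, 1, 1, 1, 1, 0, 1, 1, 1, 0], [1, 1, 1, 1, 0, 1, 1, 1, 1, 1, 0], [0, 1, 0, 1, 1, 1, 1, 0, 1, 1, 1, 0], [1, 1, 0, 1, 0, 1, 1, 1, 0, 1, 0, 1], [1, 1, 1, 1, 0, 1, 1, 1, 1, 0, 1, 0, 1]], [[], [1, 1, 1], [1, 1, 1, 1, 1, 1], [0, 1, 1, 0, 1, 1, 0], [1, 1, 1, 1, 1, 1, 1, 1, 1], [1, 1, 1, 0, 1, 1, 0, 1, 1, 0], [1, 1, 1, 1, 1, 1, 0, 1, 1, 0, 1, 1, 0], [0, 1, 1, 1, 0, 1, 0, 1, 1, 0, 1, 1, 0, 1, 0]], [[], [1, 1, 1, 1, 1, 0, 1, 1, 0, 1, 1, 0, 1], [1, 0, 1, 1, 1, 0, 1, 1, 0, 1, 0, 1, 1, 0, 1, 0], [1, 0, 1, 1, 0, 1, 1, 1, 1, 0, 1, 1, 1, 0, 1, 0, 1, 0, 1, 0]], [[], [1, 1, 1, 0, 1, 0, 1, 1, 0, 1, 1, 0, 1, 0, 1, 1, 1, 0], [1, 1, 1, 1, 1, 0, 1, 0, 1, 1, 1, 1, 0, 1, 0, 1, 1, 1, 1, 1, 0]]]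

/-- words moving the fused element onto a spanning set -/
def spanWords : List (List Nat) := [[], [0], [1], [1, 0], [0, 1], [1, 1, 0]]

/-- fuses the involution into the extraspecial part -/
def fuseSP : Nat × Nat := (0, 320183941352240618793596662946514450)

/-- moves the involution outside the extraspecial part -/
def outSP : Nat × Nat := (0, 963886112147431589980835098222775726)

/-- the image of the fused involution -/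
def fusedMask : Nat := 9929280

/-- the coordinates of the fused involution -/
def fusedVec : Nat := 2

/-- four vectors, orthogonal for the hermitian structure -/
def hermBasis : List Nat := [17, 21, 29, 31]

/-- expansions of the standard basis -/
def hermCoef : List Nat := [175, 80, 5, 20, 174, 213, 237, 165]

/-- two elements of the kernel outside the centraliser -/
def offSP : List (Nat × Nat) := [(11952160, 984818244535754528103549039458486304), (15515712, 984818244535754528103549039458486304)]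

end H79.Suz
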