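import Cfsg.Agent.H96.Co1Setting
import Cfsg.Agent.H95.Co2Cent.Rep
import Cfsg.Agent.H95.Co1Words
import Cfsg.Agent.H79.Suz.Data

/-!
An element of order three of the lattice group commuting with an octad sign change: elements of its
centraliser, computed on coordinate lists.
-/

set_option autoImplicit false

namespace H79.Suz

open Cfsg H95 H95.Co2Cent H96.Co1Oct

/-- an element with its action on coordinate lists -/
structure Listed where
  g : Co0
  f : List ℤ → List ℤ
  hf : ∀ u : leechLattice, vecL ((g • u : leechLattice) : GolayPt → ℤ) = f (vecL (u : GolayPt → ℤ))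

namespace Listed

/-- product -/
def mul (a b : Listed) : Listed :=
  ⟨a.g * b.g, fun l => a.f (b.f l), fun u => by rw [mul_smul, a.hf, b.hf]⟩

/-- identity -/
def one : Listed := ⟨1, fun l => l, fun u => by rw [one_smul]⟩

end Listed

/-- same images of the coordinate vectors -/
def eqL (a b : List ℤ → List ℤ) : Bool :=
  (List.finRange 24).all fun i => a (eightL i) == b (eightL i)

theorem eq_of_eqL {a b : Listed} (h : eqL a.f b.f = true) : a.g = b.g :=
  eq_of_eights fun i => by
    rw [a.hf, b.hf, vecL_eight]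
    exact beq_iff_eq.mp (List.all_eq_true.mp h i (List.mem_finRange _))

theorem ne_of_eqL {a b : Listed} (h : eqL a.f b.f = false) : a.g ≠ b.g := by
  intro e
  have : eqL a.f b.f = true := List.all_eq_true.mpr fun i _ => beq_iff_eq.mpr (by
    rw [← vecL_eight, ← a.hf, ← b.hf, e])
  rw [h] at this
  exact Bool.false_ne_true this

/-- a signed permutation code represents the element -/
def Coded (g : Co0) (x : ℕ × ℕ) : Prop := ∃ σ, IsSP g x.1 σ ∧ H90.Repr σ x.2

/-- product of codes -/
def mulC (x y : ℕ × ℕ) : ℕ × ℕ := (x.1 ^^^ H90.permMask x.2 y.1, H90.compN x.2 y.2)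

theorem Coded.mul {g h : Co0} {x y : ℕ × ℕ} : Coded g x → Coded h y → Coded (g * h) (mulC x y) := by
  rintro ⟨σ, hσ, rσ⟩ ⟨τ, hτ, rτ⟩
  exact ⟨σ * τ, isSP_mul hσ hτ rσ, rσ.mul rτ⟩

theorem Coded.unique {g h : Co0} {x : ℕ × ℕ} : Coded g x → Coded h x → g = h := by
  rintro ⟨σ, hσ, rσ⟩ ⟨τ, hτ, rτ⟩
  rw [rσ.unique rτ] at hσ
  exact isSP_ext hσ hτ

/-- a signed permutation on lists -/
def spL (x : ℕ × ℕ) (l : List ℤ) : List ℤ :=
  List.ofFn fun i : Fin 24 =>
    if x.1.testBit i.val then -(l.getD (srcOf x.2 i.val) 0) else l.getD (srcOf x.2 i.val) 0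

theorem vecL_coded {g : Co0} {x : ℕ × ℕ} (h : Coded g x) (hs : srcOK x.2 = true) (u : leechLattice) :
    vecL ((g • u : leechLattice) : GolayPt → ℤ) = spL x (vecL (u : GolayPt → ℤ)) := by
  obtain ⟨σ, hσ, rσ⟩ := h
  conv_lhs => unfold vecL
  unfold spL
  congr 1
  funext i
  have hsi : srcOf x.2 i.val < 24 ∧ H90.img x.2 (srcOf x.2 i.val) = i.val := by
    simpa using List.all_eq_true.mp hs i.val (List.mem_range.mpr i.isLt)
  rw [hσ, H90.idx_pt, vecL_getD _ hsi.1]
  have e : σ.symm (H90.pt i) = H90.pt ⟨_, hsi.1⟩ := by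
    rw [Equiv.symm_apply_eq]
    exact ((rσ.apply_eq_iff _ _).mpr (by rw [H90.idx_pt, H90.idx_pt]; exact hsi.2)).symm
  rw [e]

/-- the listed element of a code -/
def ofCode {g : Co0} {x : ℕ × ℕ} (h : Coded g x) (hs : srcOK x.2 = true) : Listed :=
  ⟨g, spL x, vecL_coded h hs⟩

/-- checks of a code -/
def spOK (x : ℕ × ℕ) : Bool :=
  permOK x.2 && srcOK x.2 && H90.isCode x.1 && decide (x.1 < 2 ^ 24)

theorem exists_coded {x : ℕ × ℕ} (h : spOK x = true) : ∃ g, Coded g x := by
  simp only [spOK, Bool.and_eq_true, decide_eq_true_eq] at h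
  obtain ⟨⟨⟨h1, -⟩, h3⟩, h4⟩ := h
  refine ⟨mono (permN x.2).1 (H90.setOf' x.1) (permN x.2).2
    ((H90.setOf'_mem_supports_iff h4).mpr h3), (permN x.2).1, fun v i => ?_, permN_repr h1⟩
  rw [mono_smul]
  simp only [signedPerm, H90.mem_setOf']

/-- the element of a code -/
noncomputable def spElt (x : ℕ × ℕ) : Co0 :=
  open scoped Classical in if h : spOK x = true then (exists_coded h).choose else 1

theorem spElt_coded {x : ℕ × ℕ} (h : spOK x = true) : Coded (spElt x) x := by
  rw [spElt, dif_pos h]
  exact (exists_coded h).choose_spec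

theorem spOK_src {x : ℕ × ℕ} (h : spOK x = true) : srcOK x.2 = true := by
  simp only [spOK, Bool.and_eq_true] at h
  exact h.1.1.2

/-- the listed element -/
noncomputable def spListed (x : ℕ × ℕ) (h : spOK x = true) : Listed := ofCode (spElt_coded h) (spOK_src h)

/-! ### The elements -/

/-- a matrix with two checks -/
def aData : MatData := ⟨aRows, by decide +kernel, by decide +kernel⟩

/-- a second one -/
def sData : MatData := ⟨sRows, by decide +kernel, by decide +kernel⟩

/-- listed form of a matrix element -/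
noncomputable def ofMat (D : MatData) : Listed := ⟨D.elt, applyL D.E, D.vecL_elt⟩

/-- the element of order three -/
noncomputable def aG : Co0 := aData.elt

/-- the code of the central involution of the kernel -/
def cC : ℕ × ℕ := (compM, H90.idN)

/-- the central involution of the kernel -/
noncomputable def cG : Co0 := negOne * eps

theorem coded_one : Coded 1 (0, H90.idN) := ⟨1, isSP_one, H90.repr_one⟩
theorem coded_eps : Coded eps (5279, H90.idN) := ⟨1, eps_sp, H90.repr_one⟩
theorem coded_neg : Coded negOne (16777215, H90.idN) := ⟨1, negOne_sp, H90.repr_one⟩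
theorem coded_c : Coded cG cC := ⟨1, isSP_mul_one negOne_sp eps_sp (by norm_num), H90.repr_one⟩

theorem idN_src : srcOK H90.idN = true := by decide +kernel

/-- listed `eps` -/
noncomputable def epsL : Listed := ofCode coded_eps idN_src

theorem a_cube : aG * aG * aG = 1 :=
  eq_of_eqL (a := ((ofMat aData).mul (ofMat aData)).mul (ofMat aData)) (b := Listed.one)
    (by decide +kernel)

theorem a_eps : aG * eps = eps * aG :=
  eq_of_eqL (a := (ofMat aData).mul epsL) (b := epsL.mul (ofMat aData)) (by decide +kernel)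

theorem a_ne : aG ≠ 1 :=
  ne_of_eqL (a := ofMat aData) (b := Listed.one) (by decide +kernel)

theorem a_mem : aG ∈ Cg := Subgroup.mem_centralizer_singleton_iff.mpr a_eps

/-- the centraliser in the centraliser of the sign change -/
def Cga : Subgroup Co0 := Cg ⊓ Subgroup.centralizer {aG}

/-- its part in the kernel -/
def Qa : Subgroup Co0 := Kg ⊓ Subgroup.centralizer {aG}

theorem mem_Cga {g : Co0} : g ∈ Cga ↔ g ∈ Cg ∧ g * aG = aG * g :=
  and_congr_right fun _ => Subgroup.mem_centralizer_singleton_iff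

theorem mem_Qa {g : Co0} : g ∈ Qa ↔ g ∈ Kg ∧ g * aG = aG * g :=
  and_congr_right fun _ => Subgroup.mem_centralizer_singleton_iff

theorem Qa_le : Qa ≤ Cga := inf_le_inf_right _ Kg_le

/-- fixes the vectors of the octad -/
def fixOct (f : List ℤ → List ℤ) : Bool :=
  (List.finRange 24).all fun i => !(5279 : ℕ).testBit i.val || (f (eightL i) == eightL i)

theorem mem_Kg_of_fixOct {a : Listed} (h : fixOct a.f = true) : a.g ∈ Kg :=
  mem_Kg.mpr fun p hp => eq_of_vecL (by
    have h' := List.all_eq_true.mp h (H90.idx p) (List.mem_finRange _)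
    have hb : (5279 : ℕ).testBit (H90.idx p).val = true := H90.mem_setOf'.mp hp
    simp only [hb, Bool.not_true, Bool.false_or, beq_iff_eq] at h'
    rw [a.hf, ← H90.pt_idx p, vecL_eight]
    exact h')

/-- commutes with the element of order three -/
def commA (f : List ℤ → List ℤ) : Bool :=
  eqL (fun l => f (applyL aRows l)) (fun l => applyL aRows (f l))

theorem comm_a {a : Listed} (h : commA a.f = true) : a.g * aG = aG * a.g :=
  eq_of_eqL (a := a.mul (ofMat aData)) (b := (ofMat aData).mul a) h

theorem not_comm_a {a : Listed} (h : commA a.f = false) : a.g * aG ≠ aG * a.g :=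
  ne_of_eqL (a := a.mul (ofMat aData)) (b := (ofMat aData).mul a) h

/-- commutes with `eps` -/
def commE (f : List ℤ → List ℤ) : Bool :=
  eqL (fun l => f (spL (5279, H90.idN) l)) (fun l => spL (5279, H90.idN) (f l))

theorem mem_Cga_of_checks {a : Listed} (h1 : commE a.f = true) (h2 : commA a.f = true) : a.g ∈ Cga :=
  mem_Cga.mpr ⟨Subgroup.mem_centralizer_singleton_iff.mpr
    (eq_of_eqL (a := a.mul epsL) (b := epsL.mul a) h1), comm_a h2⟩

theorem negOne_comm' (g : Co0) : g * negOne = negOne * g :=
  Subgroup.mem_center_iff.mp negOne_mem_center g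

theorem cG_comm {g : Co0} (hg : g ∈ Cg) : g * cG = cG * g := by
  rw [cG, ← mul_assoc, negOne_comm', mul_assoc, Subgroup.mem_centralizer_singleton_iff.mp hg, ← mul_assoc]

theorem cG_mem : cG ∈ Qa :=
  mem_Qa.mpr ⟨mem_Kg_of_fixOct (a := ofCode coded_c idN_src) (by decide +kernel),
    (cG_comm a_mem).symm⟩

end H79.Suz
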