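import Cfsg.Agent.H79.Suz.Psi
import Cfsg.Agent.H79.Suz.Bound
import Cfsg.Agent.H79.Suz.Crit
import Cfsg.Agent.H38.StdForms
import Cfsg.Agent.H43.Simple
import Cfsg.Agent.H43.Omega

/-!
The centraliser of an element of order three of the lattice group, modulo that element and the
centre, is simple with involution centraliser `2^{1+6}.Ω⁻₆(2)`.
-/

set_option autoImplicit false

namespace H79.Suz

open Cfsg H95 H95.Co2Cent H96.Co1Oct

theorem order_a : orderOf aG = 3 :=
  orderOf_eq_prime (by rw [pow_succ, pow_two]; exact a_cube) a_ne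

/-- the centraliser of the subgroup of order three -/
noncomputable abbrev CA : Subgroup Co0 :=
  Subgroup.centralizer ((Subgroup.zpowers aG : Subgroup Co0) : Set Co0)

/-- what is factored out -/
noncomputable abbrev AZ : Subgroup Co0 := Subgroup.zpowers aG ⊔ Subgroup.center Co0

theorem mem_CA {g : Co0} : g ∈ CA ↔ g * aG = aG * g := by
  rw [Subgroup.mem_centralizer_iff]
  constructor
  · intro h; exact (h aG (Subgroup.mem_zpowers aG)).symm
  · rintro h _ ⟨i, rfl⟩
    exact ((show Commute g aG from h).zpow_right i).eq.symm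

theorem mem_AZ {x : Co0} (hx : x ∈ AZ) : ∃ i : ℤ, x = aG ^ i ∨ x = aG ^ i * negOne := by
  haveI : (Subgroup.center Co0).Normal := inferInstance
  obtain ⟨y, hy, w, hw, rfl⟩ := Subgroup.mem_sup_of_normal_right.mp hx
  obtain ⟨i, rfl⟩ := hy
  rcases (centre_eq w).mp hw with rfl | rfl
  · exact ⟨i, Or.inl (mul_one _)⟩
  · exact ⟨i, Or.inr rfl⟩

theorem negOne_mem_AZ : negOne ∈ AZ := Subgroup.mem_sup_right negOne_mem_center

theorem az_comm {g x : Co0} (hg : g * aG = aG * g) (hx : x ∈ AZ) : g * x = x * g := by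
  obtain ⟨i, rfl | rfl⟩ := mem_AZ hx
  · exact ((show Commute g aG from hg).zpow_right i).eq
  · exact (((show Commute g aG from hg).zpow_right i).mul_right (negOne_comm' g)).eq

theorem az_small {x : Co0} (hx : x ∈ AZ) (h4 : x * x * (x * x) = 1) : x = 1 ∨ x = negOne := by
  have h3 : ∀ i : ℤ, aG ^ (4 * i) = aG ^ i := fun i => by
    rw [show 4 * i = i + (3 : ℕ) * i by push_cast; ring, zpow_add, zpow_mul, zpow_natCast,
      show aG ^ 3 = 1 from order_a ▸ pow_orderOf_eq_one aG, one_zpow, mul_one]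
  obtain ⟨i, rfl | rfl⟩ := mem_AZ hx
  · left
    rw [← h3, show 4 * i = i + i + (i + i) by ring, zpow_add, zpow_add]
    exact h4
  · right
    have e : aG ^ i * negOne * (aG ^ i * negOne) = aG ^ i * aG ^ i := by
      rw [mul_assoc, ← mul_assoc negOne, ← negOne_comm', mul_assoc (aG ^ i), H95.negOne_sq, mul_one]
    rw [e, ← zpow_add, ← zpow_add, show i + i + (i + i) = 4 * i by ring, h3] at h4
    rw [h4, one_mul]

theorem normalN : (AZ.subgroupOf CA).Normal :=
  ⟨fun n hn g => by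
    have h := az_comm (mem_CA.mp g.2) (show n.1 ∈ AZ from hn)
    show g.1 * n.1 * g.1⁻¹ ∈ AZ
    rw [h, mul_inv_cancel_right]
    exact hn⟩

attribute [local instance] normalN

/-- the section -/
abbrev SQ : Type := CA ⧸ AZ.subgroupOf CA

/-- the projection -/
noncomputable def piS : CA →* SQ := QuotientGroup.mk' _

theorem piS_eq_iff (x y : CA) : piS x = piS y ↔ x.1⁻¹ * y.1 ∈ AZ := by
  rw [piS, QuotientGroup.mk'_apply, QuotientGroup.mk'_apply, QuotientGroup.eq]
  exact Iff.rfl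

theorem piS_eq_one (x : CA) : piS x = 1 ↔ x.1 ∈ AZ := by
  rw [piS, QuotientGroup.mk'_apply, QuotientGroup.eq_one_iff]
  exact Iff.rfl

theorem Cga_le_CA : Cga ≤ CA := fun _ h => mem_CA.mpr (mem_Cga.mp h).2

theorem eps_mem_CA : eps ∈ CA := mem_CA.mpr a_eps.symm

/-- the involution -/
noncomputable def zS : SQ := piS ⟨eps, eps_mem_CA⟩

/-- from the centraliser in the lattice group -/
noncomputable def phiS : Cga →* Cz zS :=
  (piS.comp (Subgroup.inclusion Cga_le_CA)).codRestrict _ fun g =>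
    Subgroup.mem_centralizer_singleton_iff.mpr (by
      show piS _ * piS _ = piS _ * piS _
      rw [← map_mul, ← map_mul]
      exact congrArg piS (Subtype.ext (Subgroup.mem_centralizer_singleton_iff.mp (mem_Cga.mp g.2).1)))

theorem phiS_coe (g : Cga) : (phiS g).1 = piS ⟨g.1, Cga_le_CA g.2⟩ := rfl

theorem eps_sq : eps * eps = 1 :=
  (coded_eps.mul coded_eps).unique (x := mulC (5279, H90.idN) (5279, H90.idN)) (by
    rw [show mulC (5279, H90.idN) (5279, H90.idN) = (0, H90.idN) by decide +kernel]; exact coded_one)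

theorem phiS_surj : Function.Surjective phiS := by
  rintro ⟨y, hy⟩
  obtain ⟨x, rfl⟩ := QuotientGroup.mk'_surjective (AZ.subgroupOf CA) y
  have h := Subgroup.mem_centralizer_singleton_iff.mp hy
  change piS x * piS _ = piS _ * piS x at h
  rw [← map_mul, ← map_mul, piS_eq_iff] at h
  set n := (x.1 * eps)⁻¹ * (eps * x.1) with hn
  change n ∈ AZ at h
  have hc := az_comm a_eps.symm h
  have hn4 : n * n * (n * n) = 1 := by
    have h2 : x.1 * eps * x.1⁻¹ = eps * n⁻¹ := by
      have hxn := az_comm (mem_CA.mp x.2) (AZ.inv_mem h)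
      calc x.1 * eps * x.1⁻¹ = eps * x.1 * n⁻¹ * x.1⁻¹ := by rw [hn]; group
        _ = eps * n⁻¹ := by rw [mul_assoc eps, hxn, ← mul_assoc, mul_inv_cancel_right]
    have h3 : eps * n⁻¹ * (eps * n⁻¹) = 1 := by
      rw [← h2, show x.1 * eps * x.1⁻¹ * (x.1 * eps * x.1⁻¹) = x.1 * (eps * eps) * x.1⁻¹ by group,
        eps_sq, mul_one, mul_inv_cancel]
    have hci : eps * n⁻¹ = n⁻¹ * eps := (show Commute eps n from hc).inv_right.eq
    rw [mul_assoc, ← mul_assoc n⁻¹, ← hci, mul_assoc eps, ← mul_assoc, eps_sq, one_mul,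
      ← mul_inv_rev, inv_eq_one] at h3
    rw [h3, one_mul]
  rcases az_small h hn4 with e | e
  · refine ⟨⟨x.1, mem_Cga.mpr ⟨Subgroup.mem_centralizer_singleton_iff.mpr ?_, mem_CA.mp x.2⟩⟩, rfl⟩
    exact inv_mul_eq_one.mp e
  · refine absurd ?_ (eps_ne_neg (g := x.1))
    have h1 : eps * x.1 = x.1 * eps * negOne := inv_mul_eq_iff_eq_mul.mp e
    rw [h1, ← negOne_comm', mul_assoc (x.1 * eps), H95.negOne_sq, mul_one]

theorem phiS_eq_one (g : Cga) : phiS g = 1 ↔ g.1 ∈ AZ := by
  rw [Subtype.ext_iff, phiS_coe, OneMemClass.coe_one, piS_eq_one]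

theorem phiS_eq_iff (x y : Cga) : phiS x = phiS y ↔ x.1⁻¹ * y.1 ∈ AZ := by
  rw [← inv_mul_eq_one, ← map_inv, ← map_mul, phiS_eq_one]
  rfl

instance finite_co0 : Finite Co0 := co0_finite

theorem card_cent : Nat.card (Cz zS) ≤ 128 * 25920 := by
  have h1 := Subgroup.card_eq_card_quotient_mul_card_subgroup phiS.ker
  rw [Nat.card_congr (QuotientGroup.quotientKerEquivOfSurjective phiS phiS_surj).toEquiv] at h1
  have ha : (⟨aG, mem_Cga.mpr ⟨a_mem, rfl⟩⟩ : Cga) ∈ phiS.ker :=
    (phiS_eq_one _).mpr (Subgroup.mem_sup_left (Subgroup.mem_zpowers aG))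
  have hn : (⟨negOne, mem_Cga.mpr ⟨negOne_mem_Cg, (negOne_comm' aG).symm⟩⟩ : Cga) ∈ phiS.ker :=
    (phiS_eq_one _).mpr negOne_mem_AZ
  have d3 := Subgroup.orderOf_dvd_natCard _ ha
  have d2 := Subgroup.orderOf_dvd_natCard _ hn
  rw [← Subgroup.orderOf_coe] at d3 d2
  rw [order_a] at d3
  have hneg : orderOf negOne = 2 := orderOf_eq_prime (by rw [pow_two]; exact H95.negOne_sq)
    (fun e => negOne_not_mem_Kg (e ▸ Kg.one_mem))
  rw [hneg] at d2
  have h6 : 6 ≤ Nat.card phiS.ker :=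
    Nat.le_of_dvd Nat.card_pos (Nat.Coprime.mul_dvd_of_dvd_of_dvd (by norm_num : Nat.Coprime 2 3) d2 d3)
  have hb := card_Cga
  nlinarith [Nat.zero_le (Nat.card (Cz zS))]

/-- into the centraliser -/
noncomputable def iota : Qa →* Cz zS := phiS.comp (Subgroup.inclusion Qa_le)

theorem iota_inj : Function.Injective iota := by
  refine (injective_iff_map_eq_one iota).mpr fun x hx => ?_
  have h := (phiS_eq_one _).mp hx
  change x.1 ∈ AZ at h
  have h4 : x.1 * x.1 * (x.1 * x.1) = 1 := by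
    rw [sq_eq x]; split_ifs
    · exact cG_sq
    · exact one_mul 1
  rcases az_small h h4 with e | e
  · exact Subtype.ext e
  · exact absurd (e ▸ (mem_Qa.mp x.2).1) negOne_not_mem_Kg

/-- the extraspecial subgroup -/
noncomputable def QS : Subgroup (Cz zS) := iota.range

theorem normalQ : QS.Normal := ⟨fun n hn g => by
  obtain ⟨x, rfl⟩ := hn
  obtain ⟨h, rfl⟩ := phiS_surj g
  refine ⟨conjQ h x, ?_⟩
  show phiS _ = phiS h * phiS _ * (phiS h)⁻¹
  rw [← map_inv, ← map_mul, ← map_mul]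
  rfl⟩

theorem card_QS : Nat.card QS = 128 :=
  (Nat.card_congr (MonoidHom.ofInjective iota_inj).toEquiv).symm.trans card_Qa

theorem ker_le_psi : phiS.ker ≤ psi.ker := fun g hg => by
  have h := (phiS_eq_one g).mp hg
  refine MonoidHom.mem_ker.mpr (Subtype.ext (Units.ext ?_))
  show psiMat g = 1
  refine psiMat_ext fun x => ?_
  rw [psiMat_piV, Matrix.one_mulVec]
  refine congrArg piV (Subtype.ext ?_)
  show g.1 * x.1 * g.1⁻¹ = x.1
  rw [← az_comm (mem_Qa.mp x.2).2 h, mul_inv_cancel_right]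

/-- the action of the centraliser -/
noncomputable def psiS : Cz zS →* isometryGroup (ZMod 2) qm :=
  MonoidHom.liftOfSurjective phiS phiS_surj ⟨psi, ker_le_psi⟩

theorem psiS_phi (g : Cga) : psiS (phiS g) = psi g :=
  MonoidHom.liftOfRightInverse_comp_apply phiS _ _ ⟨psi, ker_le_psi⟩ g

theorem QS_le_ker : QS ≤ psiS.ker := by
  rintro _ ⟨x, rfl⟩
  refine MonoidHom.mem_ker.mpr ((psiS_phi _).trans (Subtype.ext (Units.ext ?_)))
  show psiMat _ = 1
  refine psiMat_ext fun y => ?_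
  rw [psiMat_piV, Matrix.one_mulVec,
    show conjQ (Subgroup.inclusion Qa_le x) y = x * y * x⁻¹ from Subtype.ext rfl,
    piV_mul, piV_mul, add_comm (piV x) (piV y), add_assoc, ← piV_mul, mul_inv_cancel, piV_one, add_zero]

theorem range_psiS : psiS.range = psi.range := by
  ext g
  constructor
  · rintro ⟨y, rfl⟩
    obtain ⟨x, rfl⟩ := phiS_surj y
    exact ⟨x, (psiS_phi x).symm⟩
  · rintro ⟨x, rfl⟩
    exact ⟨phiS x, psiS_phi x⟩

theorem counts : psiS.ker = QS ∧ Nat.card psiS.range = 25920 := by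
  have h1 := Subgroup.card_eq_card_quotient_mul_card_subgroup psiS.ker
  rw [Nat.card_congr (QuotientGroup.quotientKerEquivRange psiS).toEquiv] at h1
  have h2 := card_cent
  have h3 : 25920 ≤ Nat.card psiS.range := by rw [range_psiS]; exact card_range_ge
  have h4 : 128 ≤ Nat.card psiS.ker := card_QS ▸ Subgroup.card_le_of_le QS_le_ker
  have h5 : Nat.card psiS.range * Nat.card psiS.ker ≤ 128 * 25920 := h1 ▸ h2
  refine ⟨(Subgroup.eq_of_le_of_card_ge QS_le_ker ?_).symm, ?_⟩
  · rw [card_QS]; nlinarith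
  · nlinarith

theorem aniso : ∀ z₁ z₂ : ZMod 2, z₁ ^ 2 + 1 * z₁ * z₂ + 1 * z₂ ^ 2 = 0 → z₁ = 0 ∧ z₂ = 0 := by
  decide

theorem omega_qm_index : (Omega (ZMod 2) qm).index = 2 := by
  show (Omega (ZMod 2) (quadFormMinus 2 (ZMod 2) 1 1)).index = 2
  rw [← H43.coe_qMinus, H43.omega_index]
  exact H43.commutator_index_even (H43.qMinus_nondeg 2 aniso)
    (H43.reflGenerates_of_card (Or.inr (by simp))) (by simp) (CharTwo.two_eq_zero)

theorem range_psiS_eq : psiS.range = Omega (ZMod 2) qm := by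
  haveI : Finite (isometryGroup (ZMod 2) qm) := inferInstance
  have hc : Nat.card (isometryGroup (ZMod 2) qm) = 51840 := by
    rw [show qm = quadFormMinus 2 (ZMod 2) 1 1 from rfl, H38.card_minus 2 1 1 aniso, ZMod.card]
    norm_num [Finset.prod_range_succ]
  have hr : psiS.range.index = 2 := by
    have h2 := Subgroup.card_mul_index psiS.range
    rw [counts.2, hc] at h2
    omega
  haveI : psiS.range.Normal := Subgroup.normal_of_index_eq_two hr
  have hle : Omega (ZMod 2) qm ≤ psiS.range := by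
    haveI : IsMulCommutative (isometryGroup (ZMod 2) qm ⧸ psiS.range) :=
      haveI : IsCyclic (isometryGroup (ZMod 2) qm ⧸ psiS.range) :=
        isCyclic_of_prime_card (p := 2) (by rw [← Subgroup.index]; exact hr)
      inferInstance
    exact Subgroup.Normal.quotient_commutative_iff_commutator_le.mp inferInstance
  refine (Subgroup.eq_of_le_of_card_ge hle ?_).symm
  have h4 := Subgroup.card_mul_index (Omega (ZMod 2) qm)
  have h5 := Subgroup.card_mul_index psiS.range
  rw [omega_qm_index] at h4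
  rw [hr] at h5
  omega

theorem omega_qm_simple :
    IsSimpleGroup (Omega (ZMod 2) qm) ∧ Subgroup.center (Omega (ZMod 2) qm) = ⊥ := by
  have hc : Subgroup.center (Omega (ZMod 2) (quadFormMinus 2 (ZMod 2) 1 1)) = ⊥ := by
    rw [← H43.coe_qMinus]
    refine (Subgroup.eq_bot_iff_forall _).mpr fun g hg => ?_
    rcases (H43.omega_center_iff (H43.qMinus_nondeg 2 aniso) (by simp) g).mp hg with h | h
    · exact Subtype.ext (Subtype.ext (Units.ext h))
    · refine Subtype.ext (Subtype.ext (Units.ext ?_))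
      rw [h]
      exact ZModModule.neg_eq_self _
  refine ⟨?_, hc⟩
  haveI := H43.isSimpleGroup_POmega_minus (F := ZMod 2) 2 le_rfl 1 1 aniso
  exact ((QuotientGroup.quotientMulEquivOfEq hc).trans QuotientGroup.quotientBot).symm.isSimpleGroup

/-- onto the orthogonal group -/
noncomputable def chiS : Cz zS →* Omega (ZMod 2) qm :=
  psiS.codRestrict _ fun g => range_psiS_eq ▸ ⟨g, rfl⟩

theorem chiS_surj : Function.Surjective chiS := by
  rintro ⟨x, hx⟩
  rw [← range_psiS_eq] at hx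
  obtain ⟨g, rfl⟩ := hx
  exact ⟨g, rfl⟩

theorem chiS_ker : chiS.ker = QS := by
  rw [← counts.1, chiS]
  exact MonoidHom.ker_codRestrict _ _ _

/-! ### The two conjugates -/

/-- the code of the fused involution -/
def tCode : ℕ × ℕ := (fusedMask, H90.idN)

/-- coordinates of the fused involution -/
def tVec : Fin 64 := ⟨fusedVec % 64, Nat.mod_lt _ (by norm_num)⟩

theorem fuse_checks : spOK fuseSP = true ∧ commA (spL fuseSP) = true ∧ srcOK (pC true tVec).2 = true ∧
    eqL (fun l => spL fuseSP (spL (5279, H90.idN) l)) (fun l => spL (pC true tVec) (spL fuseSP l)) = true := by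
  decide +kernel

/-- the code of the second conjugate -/
def oCode : ℕ × ℕ := (H90.permMask outSP.2 5279, H90.idN)

theorem out_checks : spOK outSP = true ∧ commA (spL outSP) = true ∧ spOK oCode = true ∧
    commE (spL oCode) = true ∧ commA (spL oCode) = true ∧
    eqL (fun l => spL outSP (spL (5279, H90.idN) l)) (fun l => spL oCode (spL outSP l)) = true ∧
    ∃ j : Fin 6, eqL (fun l => spL oCode (spL (qS j) l)) (fun l => spL (qS j) (spL oCode l)) = false ∧
      eqL (fun l => spL oCode (spL (qS j) l))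
        (fun l => spL cC (spL (qS j) (spL oCode l))) = false := by
  decide +kernel

theorem cG_image : (iota ⟨cG, cG_mem⟩).1 = zS := by
  show piS _ = piS _
  rw [piS_eq_iff]
  show cG⁻¹ * eps ∈ AZ
  rw [cG, mul_inv_rev, mul_assoc, inv_eq_of_mul_eq_one_right H95.negOne_sq, ← negOne_comm', ← mul_assoc,
    inv_mul_cancel, one_mul]
  exact negOne_mem_AZ

theorem orderOf_zS : orderOf zS = 2 := by
  refine orderOf_eq_prime ?_ ?_
  · rw [pow_two, zS, ← map_mul, show (⟨eps, eps_mem_CA⟩ * ⟨eps, eps_mem_CA⟩ : CA) = 1 from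
      Subtype.ext eps_sq, map_one]
  · intro h
    have h1 : iota ⟨cG, cG_mem⟩ = 1 := Subtype.ext (cG_image.trans h)
    exact cG_ne (congrArg Subtype.val (iota_inj (h1.trans (map_one iota).symm)))

theorem iota_conj (g : Cga) (x : Qa) : iota (conjQ g x) = phiS g * iota x * (phiS g)⁻¹ := by
  rw [← map_inv]
  show phiS (Subgroup.inclusion Qa_le (conjQ g x)) = phiS g * phiS (Subgroup.inclusion Qa_le x) * phiS g⁻¹
  rw [← map_mul, ← map_mul]
  exact congrArg phiS (Subtype.ext rfl)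

theorem QS_flip : ∀ x ∈ QS, x.1 ≠ 1 → x.1 ≠ zS → ∃ y ∈ QS, y.1 * x.1 * y.1⁻¹ = zS * x.1 := by
  rintro _ ⟨x, rfl⟩ h1 h2
  obtain ⟨y, hy⟩ := exists_flip x
    (fun e => h1 (by rw [show x = 1 from Subtype.ext e, map_one]; rfl))
    (fun e => h2 (by rw [show x = ⟨cG, cG_mem⟩ from Subtype.ext e]; exact cG_image))
  refine ⟨iota y, ⟨y, rfl⟩, ?_⟩
  have e : y * x * y⁻¹ = ⟨cG, cG_mem⟩ * x := Subtype.ext hy
  have e' := congrArg (fun q => (iota q).1) e
  simp only [map_mul, map_inv, Subgroup.coe_mul, Subgroup.coe_inv] at e'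
  rw [e', cG_image]

theorem QS_cent : Subgroup.centralizer (QS : Set (Cz zS)) ≤ QS := by
  intro y hy
  rw [← counts.1, MonoidHom.mem_ker]
  obtain ⟨g, rfl⟩ := phiS_surj y
  rw [psiS_phi]
  refine Subtype.ext (Units.ext ?_)
  show psiMat g = 1
  refine psiMat_ext fun x => ?_
  rw [psiMat_piV, Matrix.one_mulVec]
  refine congrArg piV (iota_inj ?_)
  have h := Subgroup.mem_centralizer_iff.mp hy (iota x) ⟨x, rfl⟩
  rw [iota_conj]
  exact mul_inv_eq_iff_eq_mul.mpr h.symm

/-- the fused involution in the extraspecial group -/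
noncomputable def tQ : Qa := ⟨pG true tVec, pG_mem true tVec⟩

theorem tQ_ne : (iota tQ).1 ≠ zS := by
  intro h
  have h1 : iota tQ = iota ⟨cG, cG_mem⟩ := Subtype.ext (h.trans cG_image.symm)
  have h2 := pG_injective (a₁ := (true, tVec)) (a₂ := (true, 0))
    (show pG true tVec = pG true 0 from
      (congrArg Subtype.val (iota_inj h1)).trans (show cG = cG * wordG 0 by rw [word_zero, mul_one]))
  exact absurd (congrArg Prod.snd h2) (by decide)

theorem orbit_spans (M : Subgroup (Cz zS)) (hM : M.Normal) (ht : iota tQ ∈ M) (k : Fin 64) :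
    ∃ x ∈ M.comap iota, ix x = k := by
  obtain ⟨m, hm⟩ := span_check k
  rw [← hm]
  refine fold_rel (fun a (_ : Unit) => ∃ x ∈ M.comap iota, ix x = a) _ (fun _ _ => ())
    (fun a _ i ha => ?_) _ _ () ⟨1, (M.comap iota).one_mem, vec6_bij.1 (piV_one.trans (by decide +kernel))⟩
  split
  · obtain ⟨x, hx, rfl⟩ := ha
    refine ⟨x * conjQ (wEl (spanWords.getD i.val [])) tQ, (M.comap iota).mul_mem hx ?_, vec6_bij.1 ?_⟩
    · show iota _ ∈ M
      rw [iota_conj]
      exact hM.conj_mem _ ht _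
    · show piV _ = _
      rw [piV_mul, ← psiMat_piV, vec6_x6]
      congr 1
      rw [piV, ix_eq (e := true) (k := tVec) rfl, wApp_spec]
      rfl
  · exact ha

theorem main : ∃ z : SQ, orderOf z = 2 ∧ IsSimpleGroup SQ ∧ ¬ IsMulCommutative SQ ∧
    ∃ (Q : Subgroup (Subgroup.centralizer ({z} : Set SQ))) (_ : Q.Normal),
      generalizedFittingSubgroup (Subgroup.centralizer ({z} : Set SQ)) = Q ∧
      IsExtraspecial 2 Q ∧ Nat.card Q = 2 ^ 7 ∧
      Nonempty ((Subgroup.centralizer ({z} : Set SQ)) ⧸ Q ≃*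
        Omega (ZMod 2) (quadFormMinus 2 (ZMod 2) 1 1)) ∧
      ∃ g : SQ, (∃ hq : g * z * g⁻¹ ∈ Subgroup.centralizer ({z} : Set SQ),
        (⟨g * z * g⁻¹, hq⟩ : Subgroup.centralizer ({z} : Set SQ)) ∈ Q) ∧ g * z * g⁻¹ ≠ z := by
  haveI := Fact.mk Nat.prime_two
  haveI := normalQ
  haveI : Finite SQ := inferInstance
  obtain ⟨hK, hKc⟩ := omega_qm_simple
  obtain ⟨f1, f2, f3, f4⟩ := fuse_checks
  obtain ⟨o1, o2, o3, o4, o5, o6, j, o7, o8⟩ := out_checks
  -- the fused conjugate
  let gL := spListed fuseSP f1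
  have hg : gL.g ∈ CA := mem_CA.mpr (comm_a f2)
  let t : Qa := tQ
  have hgt : piS ⟨gL.g, hg⟩ * zS * (piS ⟨gL.g, hg⟩)⁻¹ = (iota t).1 := by
    show piS _ * piS ⟨eps, eps_mem_CA⟩ * (piS _)⁻¹ = piS _
    rw [← map_inv, ← map_mul, ← map_mul]
    refine congrArg piS (Subtype.ext ?_)
    have h := eq_of_eqL (a := gL.mul epsL) (b := (ofCode (coded_p true tVec) f3).mul gL) f4
    show gL.g * eps * gL.g⁻¹ = pG true tVec
    rw [show gL.g * eps = pG true tVec * gL.g from h, mul_inv_cancel_right]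
  have hne : (iota t).1 ≠ zS := tQ_ne
  -- the outer conjugate
  let hL := spListed outSP o1
  let oL' := spListed oCode o3
  have hh : hL.g ∈ CA := mem_CA.mpr (comm_a o2)
  have ho : oL'.g ∈ Cga := mem_Cga_of_checks o4 o5
  have hho : (phiS ⟨oL'.g, ho⟩).1 = piS ⟨hL.g, hh⟩ * zS * (piS ⟨hL.g, hh⟩)⁻¹ := by
    show piS _ = piS _ * piS ⟨eps, eps_mem_CA⟩ * (piS _)⁻¹
    rw [← map_inv, ← map_mul, ← map_mul]
    refine congrArg piS (Subtype.ext ?_)
    have h := eq_of_eqL (a := hL.mul epsL) (b := oL'.mul hL) o6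
    show oL'.g = hL.g * eps * hL.g⁻¹
    rw [show hL.g * eps = oL'.g * hL.g from h, mul_inv_cancel_right]
  have hoQ : phiS ⟨oL'.g, ho⟩ ∉ QS := by
    intro hQ
    have h1 := QS_le_ker hQ
    rw [MonoidHom.mem_ker, psiS_phi] at h1
    let q : Qa := ⟨qG j, qG_mem j⟩
    have hk : ix (conjQ ⟨oL'.g, ho⟩ q) = ix q := vec6_bij.1 (by
      show piV _ = piV q
      rw [← psiMat_piV, ← psi_mat, h1]
      simp)
    obtain ⟨e, he⟩ := ix_spec (conjQ ⟨oL'.g, ho⟩ q)
    obtain ⟨d, hd⟩ := ix_spec q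
    rw [hk] at he
    have hcase : oL'.g * qG j = qG j * oL'.g ∨ oL'.g * qG j = cG * (qG j * oL'.g) := by
      have hx : oL'.g * qG j * oL'.g⁻¹ = (if xor e d then cG else 1) * qG j := by
        show (conjQ ⟨oL'.g, ho⟩ q).1 = _ * q.1
        rw [he, hd, sign_pG, Bool.xor_assoc, Bool.xor_self, Bool.xor_false]
      have hx' := mul_inv_eq_iff_eq_mul.mp hx
      cases hb : xor e d <;> rw [hb] at hx'
      · left; rw [hx']; simp
      · right; rw [hx', if_pos rfl, mul_assoc]
    rcases hcase with e | e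
    · exact ne_of_eqL (a := oL'.mul (spListed (qS j) (qS_ok j).1))
        (b := (spListed (qS j) (qS_ok j).1).mul oL') o7 e
    · exact ne_of_eqL (a := oL'.mul (spListed (qS j) (qS_ok j).1))
        (b := (ofCode coded_c idN_src).mul ((spListed (qS j) (qS_ok j).1).mul oL')) o8 e
  have hP : IsExtraspecial 2 QS := H68.isExtraspecial_of_equiv (MonoidHom.ofInjective iota_inj) extraspecial_Qa
  have hext := QS_flip
  have hzQ : ∀ x : Cz zS, x.1 = zS → x ∈ QS := fun x hx =>
    ⟨⟨cG, cG_mem⟩, Subtype.ext (cG_image.trans hx.symm)⟩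
  have hcent := QS_cent
  have hirr : ∀ M : Subgroup (Cz zS), M.Normal → iota t ∈ M → QS ≤ M := by
    intro M hM ht
    have hc : iota ⟨cG, cG_mem⟩ ∈ M := by
      obtain ⟨_, ⟨y, rfl⟩, hy⟩ := hext (iota t) ⟨t, rfl⟩
        (fun e => by
          have h0 := iota_inj ((Subtype.ext e : iota t = 1).trans (map_one iota).symm)
          exact Bool.noConfusion (pG_eq_one (e := true) (k := tVec) (congrArg Subtype.val h0)).1)
        hne
      have hy' : iota y * iota t * (iota y)⁻¹ = iota ⟨cG, cG_mem⟩ * iota t := Subtype.ext (by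
        show (iota y).1 * (iota t).1 * (iota y).1⁻¹ = (iota ⟨cG, cG_mem⟩).1 * (iota t).1
        rw [cG_image]; exact hy)
      rw [eq_mul_inv_iff_mul_eq.mpr hy'.symm]
      exact M.mul_mem (hM.conj_mem _ ht _) (M.inv_mem ht)
    rintro _ ⟨x, rfl⟩
    obtain ⟨x', hx', e⟩ := orbit_spans M hM ht (ix x)
    have hz : piV (x * x'⁻¹) = 0 := by
      have hv : piV x = piV x' := congrArg vec6 e.symm
      have h := piV_mul x' x'⁻¹
      rw [mul_inv_cancel, piV_one] at h
      rw [piV_mul, hv, ← h]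
    rw [show x = x * x'⁻¹ * x' by group, map_mul]
    refine M.mul_mem ?_ hx'
    rcases piV_eq_zero hz with h | h
    · rw [show x * x'⁻¹ = 1 from Subtype.ext h, map_one]; exact M.one_mem
    · rw [show x * x'⁻¹ = ⟨cG, cG_mem⟩ from Subtype.ext h]; exact hc
  obtain ⟨s1, s2, s3⟩ := simple_of_centralizer orderOf_zS
    (IsPGroup.of_card (n := 7) (card_QS.trans (by norm_num))) hzQ hKc chiS chiS_surj chiS_ker hcent hext
    (g := piS ⟨gL.g, hg⟩) (by rw [hgt]; exact hne) (iota t) hgt.symm ⟨t, rfl⟩ hirr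
    (h := piS ⟨hL.g, hh⟩) (phiS ⟨oL'.g, ho⟩) hho hoQ
  refine ⟨zS, orderOf_zS, s1, s2, QS, normalQ, s3, hP, card_QS.trans (by norm_num), ?_,
    piS ⟨gL.g, hg⟩, ⟨?_, ?_⟩, ?_⟩
  · exact ⟨(QuotientGroup.quotientMulEquivOfEq chiS_ker.symm).trans
      (QuotientGroup.quotientKerEquivOfSurjective chiS chiS_surj)⟩
  · rw [hgt]; exact (iota t).2
  · exact ⟨t, Subtype.ext hgt.symm⟩
  · rw [hgt]; exact hne

end H79.Suz
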