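import Cfsg.Agent.H79.Suz.QPart
import Cfsg.Agent.H79.Suz.Chain

/-!
The action of the centraliser on the six-dimensional space, with a lower bound on the image.
-/

set_option autoImplicit false

namespace H79.Suz

open Cfsg H95 H95.Co2Cent H96.Co1Oct

theorem conj_mem_Kg {g k : Co0} (hg : g ∈ Cg) (hk : k ∈ Kg) : g * k * g⁻¹ ∈ Kg :=
  mem_Kg.mpr fun i hi => by
    rw [mul_smul, mul_smul, smul_fix_of_Kg hk (smul_inO (Cg.inv_mem hg) (eight_inO.mpr hi)),
      smul_inv_smul]

theorem conj_mem_Qa (g : Cga) {k : Co0} (hk : k ∈ Qa) : g.1 * k * g.1⁻¹ ∈ Qa := by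
  have hg := mem_Cga.mp g.2
  refine ⟨conj_mem_Kg hg.1 hk.1, ?_⟩
  have h : k ∈ Subgroup.centralizer {aG} := hk.2
  have hg2 : g.1 ∈ Subgroup.centralizer {aG} := g.2.2
  exact (Subgroup.centralizer {aG}).mul_mem ((Subgroup.centralizer {aG}).mul_mem hg2 h)
    ((Subgroup.centralizer {aG}).inv_mem hg2)

/-- conjugation on `Qa` -/
noncomputable def conjQ (g : Cga) : Qa →* Qa where
  toFun x := ⟨g.1 * x.1 * g.1⁻¹, conj_mem_Qa g x.2⟩
  map_one' := Subtype.ext (by simp)
  map_mul' x y := Subtype.ext (by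
    show g.1 * (x.1 * y.1) * g.1⁻¹ = g.1 * x.1 * g.1⁻¹ * (g.1 * y.1 * g.1⁻¹)
    group)

theorem piV_one : piV 1 = 0 := by
  have := piV_mul 1 1
  rw [mul_one] at this
  exact add_eq_left.mp this.symm

theorem piV_c : piV ⟨cG, cG_mem⟩ = 0 := by
  rw [piV, ix_eq (e := true) (k := 0) (show cG = cG * wordG 0 by rw [word_zero, mul_one])]
  decide +kernel

/-- a section of the coordinates -/
noncomputable def sec (v : V6) : Qa := (piV_surj v).choose

theorem piV_sec (v : V6) : piV (sec v) = v := (piV_surj v).choose_spec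

theorem piV_conj_eq (g : Cga) {x y : Qa} (h : piV x = piV y) : piV (conjQ g x) = piV (conjQ g y) := by
  have h0 : piV (x * y) = 0 := by
    rw [piV_mul, h]; exact funext fun i => CharTwo.add_self_eq_zero _
  have h1 : piV (conjQ g (x * y)) = 0 := by
    rcases piV_eq_zero h0 with e | e
    · rw [show x * y = 1 from Subtype.ext e, map_one, piV_one]
    · rw [show x * y = ⟨cG, cG_mem⟩ from Subtype.ext e,
        show conjQ g ⟨cG, cG_mem⟩ = ⟨cG, cG_mem⟩ from Subtype.ext (by
          show g.1 * cG * g.1⁻¹ = cG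
          rw [cG_comm (mem_Cga.mp g.2).1, mul_inv_cancel_right]), piV_c]
  rw [map_mul, piV_mul] at h1
  exact funext fun i => CharTwo.add_eq_zero.mp (congrFun h1 i)

/-- the induced additive map -/
noncomputable def psiAdd (g : Cga) : V6 →+ V6 :=
  AddMonoidHom.mk' (fun v => piV (conjQ g (sec v))) fun u v => by
    rw [← piV_mul, ← map_mul]
    exact piV_conj_eq g (by rw [piV_sec, piV_mul, piV_sec, piV_sec])

/-- the matrix -/
noncomputable def psiMat (g : Cga) : Matrix I6 I6 (ZMod 2) :=
  LinearMap.toMatrix' ((psiAdd g).toZModLinearMap 2)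

theorem psiMat_piV (g : Cga) (x : Qa) : Matrix.mulVec (psiMat g) (piV x) = piV (conjQ g x) := by
  rw [psiMat, LinearMap.toMatrix'_mulVec]
  exact piV_conj_eq g (piV_sec _)

theorem psiMat_ext {M N : Matrix I6 I6 (ZMod 2)}
    (h : ∀ x, Matrix.mulVec M (piV x) = Matrix.mulVec N (piV x)) : M = N :=
  Matrix.ext_of_mulVec_single fun b => by
    obtain ⟨x, hx⟩ := piV_surj (Pi.single b 1)
    rw [← hx]; exact h x

/-- the representation -/
noncomputable def psiHom : Cga →* Matrix I6 I6 (ZMod 2) where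
  toFun := psiMat
  map_one' := psiMat_ext fun x => by
    rw [psiMat_piV, Matrix.one_mulVec]
    exact congrArg piV (Subtype.ext (by show (1 : Co0) * x.1 * (1 : Co0)⁻¹ = x.1; group))
  map_mul' g h := psiMat_ext fun x => by
    rw [← Matrix.mulVec_mulVec, psiMat_piV, psiMat_piV, psiMat_piV]
    refine congrArg piV (Subtype.ext ?_)
    show (g.1 * h.1) * x.1 * (g.1 * h.1)⁻¹ = g.1 * (h.1 * x.1 * h.1⁻¹) * g.1⁻¹
    group

theorem psi_form (g : Cga) (v : V6) : qm (Matrix.mulVec (psiHom g) v) = qm v := by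
  obtain ⟨x, rfl⟩ := piV_surj v
  show qm (Matrix.mulVec (psiMat g) (piV x)) = _
  rw [psiMat_piV]
  have h1 := sq_eq x
  have h2 := sq_eq (conjQ g x)
  have e : (conjQ g x).1 * (conjQ g x).1 = g.1 * (x.1 * x.1) * g.1⁻¹ := by
    show g.1 * x.1 * g.1⁻¹ * (g.1 * x.1 * g.1⁻¹) = _
    group
  rw [e, h1] at h2
  have z2 : ∀ p q : ZMod 2, (p = 1 ↔ q = 1) → p = q := by decide
  refine z2 _ _ ⟨fun h => ?_, fun h => ?_⟩
  · by_contra h'
    rw [if_pos h, if_neg h', mul_one, mul_inv_cancel] at h2
    exact cG_ne h2.symm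
  · by_contra h'
    rw [if_neg h', if_pos h, cG_comm (mem_Cga.mp g.2).1, mul_inv_cancel_right] at h2
    exact cG_ne h2

/-- as isometries -/
noncomputable def psi : Cga →* isometryGroup (ZMod 2) qm :=
  psiHom.toHomUnits.codRestrict _ fun g u _ => psi_form g u

theorem psi_mat (g : Cga) :
    (((psi g : isometryGroup (ZMod 2) qm) : GL I6 (ZMod 2)) : Matrix I6 I6 (ZMod 2)) = psiMat g := rfl

/-! ### Two elements -/

/-- their actions on lists -/
def genF : Fin 2 → List ℤ → List ℤ
  | 0 => applyL sRows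
  | 1 => spL tSP

theorem tSP_ok : spOK tSP = true := by decide +kernel

/-- the listed elements -/
noncomputable def genListed : Fin 2 → Listed
  | 0 => ofMat sData
  | 1 => spListed tSP tSP_ok

theorem genListed_f : ∀ k, (genListed k).f = genF k
  | 0 => rfl
  | 1 => rfl

theorem gen_checks : ∀ k : Fin 2, commE (genF k) = true ∧ commA (genF k) = true := by decide +kernel

/-- the elements -/
noncomputable def genC (k : Fin 2) : Cga :=
  ⟨(genListed k).g, mem_Cga_of_checks (genListed_f k ▸ (gen_checks k).1) (genListed_f k ▸ (gen_checks k).2)⟩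

/-- column data -/
def colOf (k : Fin 2) (j : Fin 6) : Fin 64 :=
  ⟨(genCols.getD k.val []).getD j.val 0 % 64, Nat.mod_lt _ (by norm_num)⟩

/-- central factor data -/
def signOf (k : Fin 2) (j : Fin 6) : Bool := (genSigns.getD k.val []).getD j.val 0 == 1

theorem image_check : ∀ (k : Fin 2) (j : Fin 6), srcOK (pC (signOf k j) (colOf k j)).2 = true ∧
    eqL (fun l => genF k (spL (qS j) l)) (fun l => spL (pC (signOf k j) (colOf k j)) (genF k l)) = true := by
  decide +kernel

theorem bit_check : ∀ j : Fin 6, pC false (bit6 j) = qS j := by decide +kernel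

theorem qG_eq (j : Fin 6) : qG j = pG false (bit6 j) :=
  (coded_q j).unique (bit_check j ▸ coded_p false (bit6 j))

theorem gen_image (k : Fin 2) (j : Fin 6) :
    Matrix.mulVec (psiMat (genC k)) (vec6 (bit6 j)) = vec6 (colOf k j) := by
  obtain ⟨hs, he⟩ := image_check k j
  have h := eq_of_eqL (a := (genListed k).mul (spListed (qS j) (qS_ok j).1))
    (b := (ofCode (coded_p (signOf k j) (colOf k j)) hs).mul (genListed k))
    (by simpa only [Listed.mul, genListed_f, spListed, ofCode] using he)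
  have hx : piV ⟨qG j, qG_mem j⟩ = vec6 (bit6 j) := by rw [piV, ix_eq (e := false) (qG_eq j)]
  rw [← hx, psiMat_piV, piV, ix_eq (e := signOf k j) (k := colOf k j) ?_]
  show (genListed k).g * qG j * (genListed k).g⁻¹ = _
  rw [show (genListed k).g * qG j = pG _ _ * (genListed k).g from h, mul_inv_cancel_right]

/-- action on a mask -/
def stepW (k : Fin 2) (v : Fin 64) : Fin 64 := foldBits x6 0 (colOf k) v

theorem vec6_fold (k : Fin 2) (v : Fin 64) :
    vec6 (stepW k v) = foldBits (· + ·) (vec6 0) (fun j => vec6 (colOf k j)) v :=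
  (fold_rel (fun a b => b = vec6 a) _ _ (fun a b j h => by
    split
    · rw [vec6_x6, h]
    · exact h) _ _ _ rfl).symm

theorem vec6_bits : ∀ v : Fin 64, vec6 v = foldBits (· + ·) (vec6 0) (fun j => vec6 (bit6 j)) v := by
  decide +kernel

theorem stepW_spec (k : Fin 2) (v : Fin 64) :
    Matrix.mulVec (psiMat (genC k)) (vec6 v) = vec6 (stepW k v) := by
  rw [vec6_fold]
  conv_lhs => rw [vec6_bits v]
  refine fold_rel (fun a b => Matrix.mulVec (psiMat (genC k)) a = b) _ _ (fun a b j h => ?_) _ _ _ ?_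
  · split
    · rw [Matrix.mulVec_add, h, gen_image]
    · exact h
  · rw [show vec6 0 = 0 by decide +kernel, Matrix.mulVec_zero]

/-- the generator of a letter -/
def letter (n : ℕ) : Fin 2 := if n = 0 then 0 else 1

/-- a word in the two elements -/
noncomputable def wEl (w : List ℕ) : Cga := w.foldr (fun n g => genC (letter n) * g) 1

/-- its action on masks -/
def wApp (w : List ℕ) (v : Fin 64) : Fin 64 := w.foldr (fun n u => stepW (letter n) u) v

theorem wApp_spec : ∀ (w : List ℕ) (v : Fin 64),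
    Matrix.mulVec (psiMat (wEl w)) (vec6 v) = vec6 (wApp w v)
  | [], v => by
    show Matrix.mulVec (psiHom 1) _ = _
    rw [map_one, Matrix.one_mulVec]
    rfl
  | n :: w, v => by
    show Matrix.mulVec (psiHom (genC (letter n) * wEl w)) _ = _
    rw [map_mul, ← Matrix.mulVec_mulVec]
    show Matrix.mulVec (psiMat _) (Matrix.mulVec (psiMat _) _) = _
    rw [wApp_spec w v, stepW_spec]
    rfl

/-- base points -/
def basePt (i : ℕ) : Fin 64 := ⟨basePts.getD i 0 % 64, Nat.mod_lt _ (by norm_num)⟩

/-- words of a level -/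
def wordsAt (i : ℕ) : List (List ℕ) := transWords.getD i []

theorem level_check : ∀ i : Fin 5,
    (∀ w ∈ wordsAt i.val, ∀ j : Fin i.val, wApp w (basePt j.val) = basePt j.val) ∧
    ((wordsAt i.val).map fun w => wApp w (basePt i.val)).Nodup ∧
    (wordsAt i.val).length = [27, 10, 8, 4, 3].getD i.val 0 := by decide +kernel

theorem card_range_ge : 25920 ≤ Nat.card psi.range := by
  haveI : Finite Co0 := co0_finite
  haveI : Finite psi.range := Finite.of_surjective _ psi.rangeRestrict_surjective
  letI := actIso (ι := I6) (F := ZMod 2) qm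
  have h := chain_lower (G := psi.range) (fun i => vec6 (basePt i))
    (fun i => [27, 10, 8, 4, 3].getD i 0) 5 fun i hi => by
      obtain ⟨hfix, hnd, hlen⟩ := level_check ⟨i, hi⟩
      classical
      refine ⟨(((wordsAt i).map fun w => wApp w (basePt i)).map vec6).toFinset, ?_, ?_⟩
      · rw [List.toFinset_card_of_nodup (hnd.map vec6_bij.1)]
        simp only [List.length_map]
        rw [hlen]
      · intro x hx
        simp only [List.mem_toFinset, List.mem_map] at hx
        obtain ⟨_, ⟨w, hw, rfl⟩, rfl⟩ := hx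
        refine ⟨⟨psi (wEl w), _, rfl⟩, fun j hj => ?_, wApp_spec w _⟩
        show Matrix.mulVec (psiMat (wEl w)) _ = _
        rw [wApp_spec]
        exact congrArg vec6 (hfix w hw ⟨j, hj⟩)
  simpa [Finset.prod_range_succ] using h

/-- a spanning set in the orbit of the fused element -/
theorem span_check : ∀ v : Fin 64, ∃ k : Fin 64,
    foldBits x6 0 (fun j => wApp (spanWords.getD j.val []) ⟨fusedVec % 64, Nat.mod_lt _ (by norm_num)⟩) k = v := by
  decide +kernel

end H79.Suz
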